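import Groth.Agent.KoszulExt.Regular

/-!
# Permutations and zeroth homology of Koszul complexes
-/

noncomputable section

universe u

open CategoryTheory CategoryTheory.Limits RingTheory.Sequence

namespace Groth.Agent.KoszulExt

variable {A : Type u} [CommRing A]

/-- Koszul exactness does not depend on the order. -/
theorem IsExact.reindex {n m : ℕ} {f : Fin n → A} (hf : IsExact f) (σ : Fin m ≃ Fin n) :
    IsExact fun i => f (σ i) := by
  let L : (Fin n → A) ≃ₗ[A] (Fin m → A) := LinearEquiv.funCongrLeft A A σ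
  have hL : ∀ v, ∑ i, L v i * f (σ i) = ∑ i, v i * f i := fun v =>
    Equiv.sum_comp σ fun i => v i * f i
  have hL' : ∀ v, ∑ i, L.symm v i * f i = ∑ i, v i * f (σ i) := fun v => by
    rw [← hL, L.apply_symm_apply]
  have hid : ∀ z, ExteriorAlgebra.map L.toLinearMap (ExteriorAlgebra.map L.symm.toLinearMap z) = z := fun z => by
    rw [← AlgHom.comp_apply, ExteriorAlgebra.map_comp_map,
      show L.toLinearMap ∘ₗ L.symm.toLinearMap = LinearMap.id from LinearMap.ext L.apply_symm_apply,
      ExteriorAlgebra.map_id]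
    rfl
  rw [isExact_iff, isKoszulRegularSeq_iff] at hf ⊢
  intro k z hz hz0
  obtain ⟨y, hy, hyz⟩ := hf k (ExteriorAlgebra.map L.symm.toLinearMap z) (map_mem _ hz) (by
    rw [ct_map L.symm.toLinearMap (fun i => f (σ i)) f hL', hz0, map_zero])
  exact ⟨ExteriorAlgebra.map L.toLinearMap y, map_mem _ hy, by
    rw [ct_map L.toLinearMap f (fun i => f (σ i)) hL, hyz, hid]⟩

/-- A weakly regular list is Koszul regular. -/
theorem isKoszulRegularSeq_of_isWeaklyRegular {l : List A} (hl : IsWeaklyRegular A l) :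
    LCI.IsKoszulRegularSeq A l := by
  have h1 : (List.ofFn fun i : Fin l.length => l.get i.rev).reverse = l := by
    conv_rhs => rw [← List.ofFn_get l]
    refine List.ext_getElem (by simp) fun i h₁ h₂ => ?_
    simp only [List.getElem_reverse, List.getElem_ofFn, List.length_ofFn, List.get_eq_getElem, Fin.val_rev]
    congr 1
    simp at h₂
    omega
  have h := (isExact_of_reverse _ _ (h1.symm ▸ hl)).reindex Fin.revPerm
  rw [← List.ofFn_get l]
  refine (isExact_iff _).1 ?_
  convert h using 2 with i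
  simp [Fin.rev_rev]

/-- `H⁰` of the Koszul complex is `A ⧸ (f)`. -/
theorem nonempty_homology_zero_iso {n : ℕ} (f : Fin n → A) :
    Nonempty ((Koszul.koszul A (List.ofFn f)).homology 0 ≅ ModuleCat.of A (A ⧸ Ideal.span (Set.range f))) := by
  obtain ⟨e, he, hr, hd⟩ := exists_emb n f
  let K := Koszul.koszul A (List.ofFn f)
  let S := K.sc' (-1) 0 1
  have he0 : ∀ x : K.X 0, ∃ a, e 0 x = algebraMap A (ExteriorAlgebra A (Fin n → A)) a := fun x => by
    have hx : e 0 x ∈ Gz A n 0 := hr 0 ▸ LinearMap.mem_range_self _ x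
    rw [Gz, if_pos le_rfl, neg_zero, Int.toNat_zero, G, ExteriorAlgebra.exteriorPower, pow_zero,
      Submodule.one_eq_range] at hx
    obtain ⟨a, ha⟩ := hx
    exact ⟨a, ha.symm⟩
  have hX1 : ∀ x : K.X 1, x = 0 := fun x => he 1 (by
    have hx : e 1 x ∈ Gz A n 1 := hr 1 ▸ LinearMap.mem_range_self _ x
    rw [Gz, if_neg (by omega), Submodule.mem_bot] at hx
    rw [hx, map_zero])
  let ψ : LinearMap.ker S.g.hom →ₗ[A] A ⧸ Ideal.span (Set.range f) :=
    (Ideal.span (Set.range f)).mkQ ∘ₗ
      (ExteriorAlgebra.algebraMapInv : ExteriorAlgebra A (Fin n → A) →ₐ[A] A).toLinearMap ∘ₗ e 0 ∘ₗ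
        (LinearMap.ker S.g.hom).subtype
  have hψ : Function.Surjective ψ := by
    intro q
    obtain ⟨a, rfl⟩ := Submodule.Quotient.mk_surjective _ q
    have ha : algebraMap A (ExteriorAlgebra A (Fin n → A)) a ∈ LinearMap.range (e 0) := by
      rw [hr, Gz, if_pos le_rfl, neg_zero, Int.toNat_zero, G, ExteriorAlgebra.exteriorPower, pow_zero,
        Submodule.one_eq_range]
      exact ⟨a, rfl⟩
    obtain ⟨x, hx⟩ := ha
    refine ⟨⟨x, hX1 _⟩, ?_⟩
    change Submodule.Quotient.mk (ExteriorAlgebra.algebraMapInv (e 0 x)) = _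
    rw [hx, ExteriorAlgebra.algebraMap_leftInverse]
  have hker : LinearMap.ker ψ = LinearMap.range S.moduleCatToCycles := by
    ext ⟨x, hx⟩
    obtain ⟨a, ha⟩ := he0 x
    have hψx : ψ ⟨x, hx⟩ = Submodule.Quotient.mk a := by
      change Submodule.Quotient.mk (ExteriorAlgebra.algebraMapInv (e 0 x)) = _
      rw [ha, ExteriorAlgebra.algebraMap_leftInverse]
    rw [LinearMap.mem_ker, hψx, Submodule.Quotient.mk_eq_zero, LinearMap.mem_range]
    constructor
    · intro hmem
      obtain ⟨v, hv⟩ := Ideal.mem_span_range_iff_exists_fun.1 hmem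
      have hι : ExteriorAlgebra.ι A v ∈ LinearMap.range (e (-1)) := by
        rw [hr, Gz, if_pos (by omega), neg_neg, Int.toNat_one, G, ExteriorAlgebra.exteriorPower, pow_one]
        exact LinearMap.mem_range_self _ v
      obtain ⟨y, hy⟩ := hι
      refine ⟨y, Subtype.ext (he 0 ?_)⟩
      refine ((hd (-1) 0 (by omega) y).symm.trans ?_)
      rw [hy, ct_ι, hv, ha]
    · rintro ⟨y, hy⟩
      have h1 : e 0 x = ct f (e (-1) y) :=
        ((congrArg (fun z : LinearMap.ker S.g.hom => e 0 z.1) hy).symm.trans (hd (-1) 0 (by omega) y).symm :)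
      have h2 : e (-1) y ∈ G A n 1 := by
        have hx : e (-1) y ∈ Gz A n (-1) := hr (-1) ▸ LinearMap.mem_range_self _ y
        rwa [Gz, if_pos (by omega), neg_neg, Int.toNat_one] at hx
      rw [G, ExteriorAlgebra.exteriorPower, pow_one] at h2
      obtain ⟨v, hv⟩ := h2
      rw [← hv, ct_ι, ha] at h1
      rw [(ExteriorAlgebra.algebraMap_leftInverse (Fin n → A)).injective h1]
      exact Ideal.sum_mem _ fun i _ => Ideal.mul_mem_left _ _ (Ideal.subset_span ⟨i, rfl⟩)
  exact ⟨(K.homologyIsoSc' (-1) 0 1 (CochainComplex.prev ℤ 0 |>.trans (by omega))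
    (CochainComplex.next ℤ 0 |>.trans (by omega))) ≪≫ S.moduleCatHomologyIso ≪≫
      ((Submodule.quotEquivOfEq _ _ hker.symm).trans (ψ.quotKerEquivOfSurjective hψ)).toModuleIso⟩

end Groth.Agent.KoszulExt
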