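import Groth.Agent.KoszulExt.Conormal
import Mathlib.LinearAlgebra.Matrix.Adjugate
import Mathlib.RingTheory.Ideal.Operations
import Mathlib.LinearAlgebra.Dimension.StrongRankCondition

/-!
# Koszul-regular generating sequences are those of minimal length
-/

noncomputable section

universe u

namespace Groth.Agent.KoszulExt

open ExteriorAlgebra

variable {A : Type u} [CommRing A] {n : ℕ}

lemma ct_smul_seq (d : A) (f : Fin n → A) (x : ExteriorAlgebra A (Fin n → A)) :
    ct (fun i => d * f i) x = d • ct f x := by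
  simp only [ct]
  rw [← LinearMap.smul_apply, ← map_smul]
  congr 2
  refine LinearMap.ext fun v => ?_
  simp only [LinearMap.smul_apply, Fintype.linearCombination_apply, smul_eq_mul, Finset.mul_sum]
  exact Finset.sum_congr rfl fun i _ => by ring

lemma map_smul_id (d : A) {k : ℕ} {x : ExteriorAlgebra A (Fin n → A)} (hx : x ∈ G A n k) :
    ExteriorAlgebra.map (d • (LinearMap.id : (Fin n → A) →ₗ[A] (Fin n → A))) x = d ^ k • x := by
  refine G_induction (C := fun k x => ExteriorAlgebra.map (d • (LinearMap.id : (Fin n → A) →ₗ[A] (Fin n → A))) x = d ^ k • x)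
    (fun a => by rw [AlgHom.commutes, pow_zero, one_smul])
    (fun k x y hx hy => by rw [map_add, hx, hy, smul_add]) (fun k v x _ hx => ?_) hx
  rw [map_mul, map_apply_ι, hx, LinearMap.smul_apply, LinearMap.id_apply, map_smul, smul_mul_smul_comm, pow_succ']

/-- Exactness transfers along a matrix whose determinant is invertible modulo the ideal. -/
theorem IsExact.of_matrix {f g : Fin n → A} (hg : IsExact g) (c : Matrix (Fin n) (Fin n) A)
    (hc : ∀ i, f i = ∑ j, c i j * g j) (hdet : Ideal.span (Set.range f) ⊔ Ideal.span {c.det} = ⊤) :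
    IsExact f := by
  intro k z
  refine ⟨fun hz => ?_, fun ⟨y, hy⟩ => hy ▸ dk_dk f k y⟩
  have hz' : ct f z.1 = 0 := congrArg Subtype.val hz
  let S : Ideal A := (LinearMap.range (dk f (k + 1))).comap (LinearMap.toSpanSingleton A _ z)
  have hS : ∀ a : A, a ∈ S ↔ ∃ y, dk f (k + 1) y = a • z := fun a => Iff.rfl
  have h1 : Ideal.span (Set.range f) ≤ S := by
    rw [Ideal.span_le]
    rintro _ ⟨i, rfl⟩
    refine (hS _).2 ⟨⟨ι A (Pi.single i 1) * z.1, ι_mul_mem _ z.2⟩, Subtype.ext ?_⟩
    rw [dk_coe, ct_ι_mul, hz', mul_zero, sub_zero, Finset.sum_eq_single i (fun j _ hj => by simp [Pi.single_eq_of_ne hj]) (by simp)]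
    simp
  let w : G A n (k + 1) := mapk (matMap c) (k + 1) z
  have hw : dk g k w = 0 := Subtype.ext (by
    show ct g (ExteriorAlgebra.map (matMap c) z.1) = 0
    rw [ct_map _ f g (matMap_sum hc), hz', map_zero])
  obtain ⟨y, hy⟩ := (hg k w).1 hw
  have hadj : ∀ i, c.det * g i = ∑ j, c.adjugate i j * f j := by
    intro i
    simp only [hc, Finset.mul_sum, ← mul_assoc]
    rw [Finset.sum_comm]
    simp only [← Finset.sum_mul, ← Matrix.mul_apply, Matrix.adjugate_mul]
    simp [Matrix.one_apply]
  have hcomp : matMap c.adjugate ∘ₗ matMap c = c.det • (LinearMap.id : (Fin n → A) →ₗ[A] (Fin n → A)) := by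
    refine LinearMap.ext fun v => ?_
    simp only [matMap, LinearMap.comp_apply, Matrix.vecMulLinear_apply, Matrix.vecMul_vecMul, Matrix.mul_adjugate,
      Matrix.vecMul_smul, Matrix.vecMul_one, LinearMap.smul_apply, LinearMap.id_apply]
  have h2 : c.det ^ (k + 1 + 1) ∈ S := by
    refine (hS _).2 ⟨mapk (matMap c.adjugate) (k + 2) y, Subtype.ext ?_⟩
    show ct f (ExteriorAlgebra.map (matMap c.adjugate) y.1) = c.det ^ (k + 1 + 1) • z.1
    have hy' : ct g y.1 = ExteriorAlgebra.map (matMap c) z.1 := congrArg Subtype.val hy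
    rw [ct_map (matMap c.adjugate) (fun i => c.det * g i) f (matMap_sum hadj), ct_smul_seq, hy', map_smul,
      ← AlgHom.comp_apply, ExteriorAlgebra.map_comp_map, hcomp, map_smul_id _ z.2, smul_smul, ← pow_succ']
  have htop : S = ⊤ := by
    have : IsUnit (Ideal.Quotient.mk (Ideal.span (Set.range f)) c.det) := by
      obtain ⟨a, ha, b, hb, hab⟩ := Submodule.mem_sup.1 (hdet.ge (Submodule.mem_top : (1 : A) ∈ ⊤))
      obtain ⟨r, rfl⟩ := Ideal.mem_span_singleton'.1 hb
      refine IsUnit.of_mul_eq_one (Ideal.Quotient.mk _ r) ?_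
      rw [← map_mul, ← map_one (Ideal.Quotient.mk _), Ideal.Quotient.eq, ← hab, show c.det * r - (a + r * c.det) = -a by ring]
      exact neg_mem ha
    obtain ⟨r, hr⟩ := (this.pow (k + 1 + 1)).exists_right_inv
    obtain ⟨r, rfl⟩ := Ideal.Quotient.mk_surjective r
    rw [← map_pow, ← map_mul, ← map_one (Ideal.Quotient.mk _), Ideal.Quotient.eq] at hr
    rw [Ideal.eq_top_iff_one]
    simpa using sub_mem (S.mul_mem_right r h2) (h1 hr)
  obtain ⟨y', hy'⟩ := (hS 1).1 (htop.ge trivial)
  exact ⟨y', hy'.trans (one_smul _ _)⟩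

/-- A generating sequence is Koszul-regular iff it is of minimal length, if some generating sequence is Koszul-regular. -/
theorem isExact_iff_minimal {I : Ideal A} (hI : I ≠ ⊤) {r m : ℕ} {g : Fin r → A} (hg : IsExact g)
    (hgI : Ideal.span (Set.range g) = I) {f : Fin m → A} (hfI : Ideal.span (Set.range f) = I) :
    IsExact f ↔ ∀ (l : ℕ) (h : Fin l → A), Ideal.span (Set.range h) = I → m ≤ l := by
  have : Nontrivial (A ⧸ I) := Ideal.Quotient.nontrivial_iff.mpr hI
  have hgm : ∀ i, g i ∈ I := fun i => hgI.le (Ideal.subset_span ⟨i, rfl⟩)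
  obtain ⟨b, hb⟩ := exists_basis_cotangent (I := I) (fun i => ⟨g i, hgm i⟩) hg hgI
  have hspan : ∀ (l : ℕ) (h : Fin l → A) (hh : Ideal.span (Set.range h) = I),
      ⊤ ≤ Submodule.span (A ⧸ I) (Set.range fun i => I.toCotangent ⟨h i, hh.le (Ideal.subset_span ⟨i, rfl⟩)⟩) := by
    intro l h hh z _
    obtain ⟨⟨x, hx⟩, rfl⟩ := I.toCotangent_surjective z
    obtain ⟨c, hc⟩ := Ideal.mem_span_range_iff_exists_fun.1 (hh.ge hx)
    have : (⟨x, hx⟩ : I) = ∑ j, c j • (⟨h j, hh.le (Ideal.subset_span ⟨j, rfl⟩)⟩ : I) := Subtype.ext (by simp [hc])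
    rw [this, map_sum]
    refine Submodule.sum_mem _ fun j _ => ?_
    rw [map_smul, ← algebraMap_smul (A ⧸ I)]
    exact Submodule.smul_mem _ _ (Submodule.subset_span ⟨j, rfl⟩)
  have hle : ∀ (l : ℕ) (h : Fin l → A), Ideal.span (Set.range h) = I → r ≤ l := by
    intro l h hh
    let π := Fintype.linearCombination (A ⧸ I) fun i => I.toCotangent ⟨h i, hh.le (Ideal.subset_span ⟨i, rfl⟩)⟩
    have hπ : Function.Surjective π := fun z => by
      have := hspan l h hh (Submodule.mem_top : z ∈ ⊤)
      rwa [← Fintype.range_linearCombination] at this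
    exact le_of_fin_surjective (A ⧸ I) (b.equivFun.toLinearMap ∘ₗ π) (b.equivFun.surjective.comp hπ)
  constructor
  · intro hf l h hh
    have hfm : ∀ i, f i ∈ I := fun i => hfI.le (Ideal.subset_span ⟨i, rfl⟩)
    obtain ⟨b', -⟩ := exists_basis_cotangent (I := I) (fun i => ⟨f i, hfm i⟩) hf hfI
    have := Module.Basis.indexEquiv b' b
    have hmr : m = r := Fin.equiv_iff_eq.1 ⟨this⟩
    exact hmr.le.trans (hle l h hh)
  · intro hmin
    obtain rfl : m = r := le_antisymm (hmin r g hgI) (hle m f hfI)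
    choose c hc using fun i => Ideal.mem_span_range_iff_exists_fun.1 (hgI.ge (hfI.le (Ideal.subset_span ⟨i, rfl⟩) : f i ∈ I))
    choose c' hc' using fun i => Ideal.mem_span_range_iff_exists_fun.1 (hfI.ge (hgm i))
    let C : Matrix (Fin m) (Fin m) A := fun i j => c i j
    let C' : Matrix (Fin m) (Fin m) A := fun i j => c' i j
    refine hg.of_matrix C (fun i => (hc i).symm) ?_
    rw [hfI, eq_top_iff]
    intro a _
    have hrel : ∀ i j, (1 - C' * C : Matrix (Fin m) (Fin m) A) i j ∈ I := by
      intro i j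
      rw [← hgI]
      refine hg.rel_mem (v := fun j => (1 - C' * C : Matrix (Fin m) (Fin m) A) i j) ?_ j
      simp only [Matrix.sub_apply, Matrix.one_apply, Matrix.mul_apply, sub_mul, Finset.sum_sub_distrib, ite_mul, one_mul,
        zero_mul, Finset.sum_ite_eq, Finset.mem_univ, if_true, Finset.sum_mul]
      rw [Finset.sum_comm]
      simp only [C, C', mul_assoc, ← Finset.mul_sum, hc, hc', sub_self]
    have hq : (C'.map (Ideal.Quotient.mk I)).det * (C.map (Ideal.Quotient.mk I)).det = 1 := by
      rw [← Matrix.det_mul, ← Matrix.map_mul]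
      rw [show (C' * C).map (Ideal.Quotient.mk I) = 1 from Matrix.ext fun i j => by
        have := Ideal.Quotient.eq_zero_iff_mem.2 (hrel i j)
        rw [Matrix.sub_apply, map_sub, sub_eq_zero] at this
        rw [Matrix.map_apply, ← this, Matrix.one_apply, Matrix.one_apply]
        split_ifs <;> simp]
      exact Matrix.det_one
    rw [← RingHom.mapMatrix_apply, ← RingHom.mapMatrix_apply, ← RingHom.map_det, ← RingHom.map_det, ← map_mul,
      ← map_one (Ideal.Quotient.mk I), Ideal.Quotient.eq] at hq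
    have h1 : (1 : A) ∈ I ⊔ Ideal.span {C.det} := by
      rw [show (1 : A) = -(C'.det * C.det - 1) + C'.det * C.det by ring]
      exact add_mem (Submodule.mem_sup_left (neg_mem hq)) (Submodule.mem_sup_right (Ideal.mem_span_singleton'.2 ⟨_, rfl⟩))
    rw [show a = a * 1 by ring]
    exact Ideal.mul_mem_left _ a h1

theorem isKoszulRegularSeq_iff_minimal {I : Ideal A} (hI : I ≠ ⊤) (g : List A) (hg : LCI.IsKoszulRegularSeq A g)
    (hgI : Ideal.ofList g = I) (f : List A) (hfI : Ideal.ofList f = I) :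
    LCI.IsKoszulRegularSeq A f ↔ ∀ h : List A, Ideal.ofList h = I → f.length ≤ h.length := by
  have hr : ∀ l : List A, Set.range l.get = {x | x ∈ l} := fun l => Set.ext fun x => List.mem_iff_get.symm
  conv_lhs => rw [← List.ofFn_get f]
  rw [← isExact_iff, isExact_iff_minimal hI (g := g.get) ((isExact_iff _).2 (by rwa [List.ofFn_get]))
    (by rw [hr]; exact hgI) (f := f.get) (by rw [hr]; exact hfI)]
  constructor
  · intro h l hl
    exact h l.length l.get (by rw [hr]; exact hl)
  · intro h l hh hl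
    simpa using h (List.ofFn hh) (by rw [Ideal.ofList, ← hl]; congr 1; ext x; exact List.mem_ofFn)

end Groth.Agent.KoszulExt
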