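import Groth.Agent.KoszulExt.Complex
import Mathlib.RingTheory.Regular.RegularSequence

/-!
# Weakly regular sequences are Koszul regular
-/

noncomputable section

universe u

open RingTheory.Sequence

namespace Groth.Agent.KoszulExt

variable {A : Type u} [CommRing A]

/-- A weakly regular sequence, written backwards, has exact contraction complex. -/
theorem isExact_of_reverse : ∀ (n : ℕ) (f : Fin n → A),
    IsWeaklyRegular A (List.ofFn f).reverse → IsExact f := by
  intro n
  induction n with
  | zero =>
    intro f _ k x
    have hx : x = 0 := Subtype.ext ((Submodule.mem_bot A).1 ((G_zero_eq_bot (A := A) (Nat.succ_ne_zero k)).le x.2))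
    exact ⟨fun _ => ⟨0, by rw [hx, map_zero]⟩, fun _ => by rw [hx, map_zero]⟩
  | succ n ih =>
    intro f hf
    let f' : Fin n → A := fun i => f i.succ
    rw [List.ofFn_succ, List.reverse_cons, isWeaklyRegular_append_iff, isWeaklyRegular_singleton_iff] at hf
    have hI : Ideal.ofList (List.ofFn f').reverse = Ideal.span (Set.range f') := by
      refine congrArg Ideal.span ?_
      ext z
      simp [List.mem_ofFn]
    have hnzd : ∀ b : A, f 0 * b ∈ Ideal.span (Set.range f') → b ∈ Ideal.span (Set.range f') := by
      intro b hb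
      have h := hf.2.right_eq_zero_of_smul (x := Submodule.Quotient.mk b)
      rw [← Submodule.Quotient.mk_smul, Submodule.Quotient.mk_eq_zero, Submodule.Quotient.mk_eq_zero,
        smul_eq_mul, smul_eq_mul, Ideal.mul_top, hI] at h
      exact h hb
    have hex := (isExact_iff f').1 (ih f' hf.1)
    rw [isKoszulRegularSeq_iff] at hex
    rw [isExact_iff, isKoszulRegularSeq_iff]
    intro k z hz hz0
    obtain ⟨a, b, ha, hb, rfl⟩ := exists_split hz
    rw [if_neg (Nat.succ_ne_zero k), Nat.add_sub_cancel] at hb
    rw [ct_split, ← map_zero (split : _ →ₗ[A] ExteriorAlgebra A (Fin (n + 1) → A))] at hz0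
    obtain ⟨h1, h2⟩ := Prod.ext_iff.1 (split_injective hz0)
    simp only [Prod.fst_zero, Prod.snd_zero, neg_eq_zero] at h1 h2
    obtain ⟨b', hb', hbb⟩ : ∃ b' ∈ G A n (k + 1), ct f' b' = b := by
      rcases k with _ | k
      · rw [G, ExteriorAlgebra.exteriorPower, pow_zero, Submodule.one_eq_range] at hb
        obtain ⟨r, rfl⟩ := hb
        have hfr : f 0 * r ∈ Ideal.span (Set.range f') := by
          have h3 := ct_mem_span f' a ha
          have h4 : ExteriorAlgebra.algebraMapInv (ct f' a) ∈ Ideal.span (Set.range f') := by
            refine Submodule.smul_induction_on h3 (fun c hc y _ => ?_) fun x y hx hy => by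
              rw [map_add]; exact add_mem hx hy
            rw [map_smul, smul_eq_mul]
            exact Ideal.mul_mem_right _ _ hc
          rw [add_eq_zero_iff_eq_neg.1 h1, map_neg, map_smul, smul_eq_mul] at h4
          rw [Algebra.linearMap_apply, ExteriorAlgebra.algebraMap_leftInverse, neg_mem_iff] at h4
          exact h4
        obtain ⟨v, hv⟩ := (Ideal.mem_span_range_iff_exists_fun).1 (hnzd r hfr)
        refine ⟨ExteriorAlgebra.ι A v, ?_, ?_⟩
        · rw [G, ExteriorAlgebra.exteriorPower, pow_one]; exact LinearMap.mem_range_self _ v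
        · rw [ct_ι, ← hv]; rfl
      · exact hex k b hb h2
    obtain ⟨a', ha', haa⟩ : ∃ a' ∈ G A n (k + 2), ct f' a' = a + f 0 • b' :=
      hex k _ (add_mem ha (Submodule.smul_mem _ _ hb')) (by rw [map_add, map_smul, hbb]; exact h1)
    refine ⟨split (a', -b'), split_mem ha' (neg_mem hb'), ?_⟩
    rw [ct_split]
    congr 1
    refine Prod.ext ?_ ?_
    · change ct f' a' + f 0 • -b' = a
      rw [haa, smul_neg]; abel
    · change -ct f' (-b') = b
      rw [map_neg, neg_neg, hbb]

end Groth.Agent.KoszulExt
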