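import Groth.Agent.KoszulExt.Cone
import Mathlib.LinearAlgebra.ExteriorAlgebra.Basis
import Mathlib.LinearAlgebra.Determinant
import Mathlib.Algebra.Module.Projective
import Mathlib.LinearAlgebra.Matrix.Adjugate

/-!
# The Koszul complex on exterior powers and the colon of two Koszul-regular ideals
-/

noncomputable section

universe u

namespace Groth.Agent.KoszulExt

variable {A : Type u} [CommRing A] {n : ℕ}

/-- The differential on the graded pieces. -/
def dk (f : Fin n → A) (k : ℕ) : G A n (k + 1) →ₗ[A] G A n k :=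
  (ct f).restrict fun _ hx => (ct_mem hx).1

lemma dk_coe (f : Fin n → A) (k : ℕ) (x : G A n (k + 1)) :
    ((dk f k x : G A n k) : ExteriorAlgebra A (Fin n → A)) = ct f x := rfl

lemma dk_dk (f : Fin n → A) (k : ℕ) (x : G A n (k + 2)) : dk f k (dk f (k + 1) x) = 0 :=
  Subtype.ext (ct_ct f _)

/-- Exactness of the differentials in positive degrees. -/
def IsExact (f : Fin n → A) : Prop := ∀ k, Function.Exact (dk f (k + 1)) (dk f k)

theorem isExact_iff (f : Fin n → A) : IsExact f ↔ LCI.IsKoszulRegularSeq A (List.ofFn f) := by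
  rw [isKoszulRegularSeq_iff]
  constructor
  · intro h k z hz hz0
    obtain ⟨y, hy⟩ := (h k ⟨z, hz⟩).1 (Subtype.ext hz0)
    exact ⟨y, y.2, congrArg Subtype.val hy⟩
  · intro h k z
    refine ⟨fun hz => ?_, fun ⟨y, hy⟩ => hy ▸ dk_dk f k y⟩
    obtain ⟨y, hy, hy'⟩ := h k z z.2 (congrArg Subtype.val hz)
    exact ⟨⟨y, hy⟩, Subtype.ext hy'⟩

variable (A n) in
/-- The top exterior product. -/
def omega : G A n n := exteriorPower.ιMulti A n (Pi.basisFun A (Fin n))

variable (A n) in
/-- The coordinate on the top degree. -/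
def topCoord : G A n n →ₗ[A] A := exteriorPower.alternatingMapLinearEquiv (Pi.basisFun A (Fin n)).det

lemma topCoord_ιMulti (v : Fin n → (Fin n → A)) :
    topCoord A n (exteriorPower.ιMulti A n v) = (Pi.basisFun A (Fin n)).det v :=
  exteriorPower.alternatingMapLinearEquiv_apply_ιMulti _ _

lemma topCoord_omega : topCoord A n (omega A n) = 1 :=
  (topCoord_ιMulti _).trans (Pi.basisFun A (Fin n)).det_self

lemma eq_topCoord_smul (z : G A n n) : z = topCoord A n z • omega A n := by
  let e := Pi.basisFun A (Fin n)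
  suffices h : (LinearMap.id : G A n n →ₗ[A] G A n n) = (topCoord A n).smulRight (omega A n) from
    LinearMap.congr_fun h z
  refine exteriorPower.linearMap_ext (Module.Basis.ext_alternating e fun v hv => ?_)
  let σ : Equiv.Perm (Fin n) := Equiv.ofBijective v (Finite.injective_iff_bijective.1 hv)
  change exteriorPower.ιMulti A n (e ∘ σ) = topCoord A n (exteriorPower.ιMulti A n (e ∘ σ)) • omega A n
  rw [AlternatingMap.map_perm, show exteriorPower.ιMulti A n e = omega A n from rfl, Units.smul_def,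
    map_zsmul, topCoord_omega, smul_assoc, one_smul]

section Map

variable {m : ℕ}

/-- The induced map on a graded piece. -/
def mapk (L : (Fin n → A) →ₗ[A] (Fin m → A)) (k : ℕ) : G A n k →ₗ[A] G A m k :=
  (ExteriorAlgebra.map L).toLinearMap.restrict fun _ hx => map_mem L hx

end Map

/-- The map given by a matrix relating two sequences. -/
def matMap (c : Matrix (Fin n) (Fin n) A) : (Fin n → A) →ₗ[A] (Fin n → A) := c.vecMulLinear

lemma matMap_sum {f g : Fin n → A} {c : Matrix (Fin n) (Fin n) A} (hc : ∀ i, f i = ∑ j, c i j * g j)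
    (v : Fin n → A) : ∑ j, matMap c v j * g j = ∑ i, v i * f i := by
  simp only [matMap, Matrix.vecMulLinear_apply, Matrix.vecMul, dotProduct, Finset.sum_mul, hc, Finset.mul_sum,
    mul_assoc]
  exact Finset.sum_comm

lemma topCoord_mapk (c : Matrix (Fin n) (Fin n) A) : topCoord A n (mapk (matMap c) n (omega A n)) = c.det := by
  have h : mapk (matMap c) n (omega A n) = exteriorPower.ιMulti A n (matMap c ∘ Pi.basisFun A (Fin n)) :=
    Subtype.ext (ExteriorAlgebra.map_apply_ιMulti _ _)
  rw [h, topCoord_ιMulti, Module.Basis.det_apply, ← Matrix.det_transpose]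
  congr 1
  ext i j
  simp [Module.Basis.toMatrix_apply, matMap, Matrix.single_one_vecMul]

lemma ct_mem_span (f : Fin n → A) (x : ExteriorAlgebra A (Fin n → A)) {k : ℕ} (hx : x ∈ G A n (k + 1)) :
    ct f x ∈ Ideal.span (Set.range f) • G A n k := by
  have := G_induction (A := A) (n := n)
    (C := fun k x => ct f x ∈ Ideal.span (Set.range f) • G A n (k - 1) ∧ (k = 0 → ct f x = 0))
    (fun a => ⟨by rw [ct_algebraMap]; exact zero_mem _, fun _ => ct_algebraMap f a⟩)
    (fun k x y hx hy => ⟨by rw [map_add]; exact add_mem hx.1 hy.1, fun hk => by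
      rw [map_add, hx.2 hk, hy.2 hk, add_zero]⟩)
    (fun k v x hx h => ⟨?_, fun hk => absurd hk (Nat.succ_ne_zero k)⟩) hx
  · exact this.1
  · rw [ct_ι_mul, Nat.add_sub_cancel]
    refine sub_mem (Submodule.smul_mem_smul (Ideal.sum_mem _ fun i _ =>
      Ideal.mul_mem_left _ _ (Ideal.subset_span ⟨i, rfl⟩)) hx) ?_
    rcases k with _ | k
    · rw [h.2 rfl, mul_zero]; exact zero_mem _
    · refine Submodule.smul_induction_on h.1 (fun r hr y hy => ?_) fun a b ha hb => by rw [mul_add]; exact add_mem ha hb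
      rw [mul_smul_comm]
      exact Submodule.smul_mem_smul hr (ι_mul_mem v hy)

lemma topCoord_dk_mem (f : Fin (n + 1) → A) (h : G A (n + 1) n →ₗ[A] G A (n + 1) (n + 1))
    (z : G A (n + 1) (n + 1)) : topCoord A (n + 1) (h (dk f n z)) ∈ Ideal.span (Set.range f) := by
  have : dk f n z ∈ Ideal.span (Set.range f) • (⊤ : Submodule A (G A (n + 1) n)) :=
    (Submodule.mem_smul_top_iff _ _ _).2 (ct_mem_span f _ z.2)
  refine Submodule.smul_induction_on this (fun r hr y _ => ?_) fun a b ha hb => by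
    rw [map_add, map_add]; exact add_mem ha hb
  rw [map_smul, map_smul, smul_eq_mul]
  exact Ideal.mul_mem_right _ _ hr

lemma G_eq_bot_of_lt {k : ℕ} (hk : n < k) : G A n k = ⊥ := by
  have h : Subsingleton (G A n k) := by
    haveI : IsEmpty (Set.powersetCard (Fin n) k) := ⟨fun s => by
      have := s.1.card_le_univ
      rw [s.2, Fintype.card_fin] at this
      omega⟩
    exact ((Pi.basisFun A (Fin n)).exteriorPower k).repr.toEquiv.subsingleton
  exact Submodule.eq_bot_of_subsingleton

section Lift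

variable {f : Fin n → A}

/-- A map into cycles lifts along an exact pair. -/
lemma exists_factor {M : Type u} [AddCommGroup M] [Module A M] [Module.Projective A M] {k : ℕ}
    (hf : IsExact f) (φ : M →ₗ[A] G A n (k + 1)) (hφ : ∀ x, dk f k (φ x) = 0) :
    ∃ ψ : M →ₗ[A] G A n (k + 2), ∀ x, dk f (k + 1) (ψ x) = φ x := by
  let φ' : M →ₗ[A] LinearMap.range (dk f (k + 1)) := φ.codRestrict _ fun x => (hf k _).1 (hφ x)
  obtain ⟨ψ, hψ⟩ := Module.projective_lifting_property (dk f (k + 1)).rangeRestrict φ'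
    (LinearMap.surjective_rangeRestrict _)
  exact ⟨ψ, fun x => congrArg Subtype.val (LinearMap.congr_fun hψ x)⟩

/-- A chain map out of the Koszul complex of `g` lifting multiplication by `x`. -/
theorem exists_lift {m : ℕ} (g : Fin m → A) (hf : IsExact f) (x : A)
    (hx : ∀ v : Fin m → A, x * (∑ j, v j * g j) ∈ Ideal.span (Set.range f)) :
    ∃ θ : ∀ k, G A m k →ₗ[A] G A n k, (∀ r (h : algebraMap A (ExteriorAlgebra A (Fin m → A)) r ∈ G A m 0),
      θ 0 ⟨algebraMap A _ r, h⟩ =
      ⟨algebraMap A _ (x * r), by rw [G, ExteriorAlgebra.exteriorPower, pow_zero, Submodule.one_eq_range]; exact ⟨_, rfl⟩⟩) ∧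
      ∀ k y, dk f k (θ (k + 1) y) = θ k (dk g k y) := by
  classical
  let θ₀ : G A m 0 →ₗ[A] G A n 0 :=
    (x • (Algebra.linearMap A (ExteriorAlgebra A (Fin n → A)) ∘ₗ
      (ExteriorAlgebra.algebraMapInv (R := A) (M := Fin m → A)).toLinearMap ∘ₗ (G A m 0).subtype)).codRestrict _ fun z => by
        rw [G, ExteriorAlgebra.exteriorPower, pow_zero, Submodule.one_eq_range]
        exact Submodule.smul_mem _ _ ⟨_, rfl⟩
  have hθ₀ : ∀ r (h : algebraMap A (ExteriorAlgebra A (Fin m → A)) r ∈ G A m 0), ((θ₀ ⟨algebraMap A _ r, h⟩ : G A n 0) : ExteriorAlgebra A (Fin n → A)) =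
      algebraMap A _ (x * r) := fun r h => by
    change x • algebraMap A (ExteriorAlgebra A (Fin n → A)) (ExteriorAlgebra.algebraMapInv (algebraMap A (ExteriorAlgebra A (Fin m → A)) r)) = _
    rw [AlgHom.commutes, Algebra.algebraMap_self, RingHom.id_apply, Algebra.smul_def, ← map_mul]
  -- degree one: every value of `θ₀ ∘ d` is a boundary
  obtain ⟨θ₁, hθ₁⟩ : ∃ θ₁ : G A m 1 →ₗ[A] G A n 1, ∀ y, dk f 0 (θ₁ y) = θ₀ (dk g 0 y) := by
    have hr : ∀ y, θ₀ (dk g 0 y) ∈ LinearMap.range (dk f 0) := by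
      intro y
      obtain ⟨v, hv⟩ : (y : ExteriorAlgebra A (Fin m → A)) ∈ LinearMap.range (ExteriorAlgebra.ι A) := by
        simpa [G, ExteriorAlgebra.exteriorPower] using y.2
      obtain ⟨w, hw⟩ := Ideal.mem_span_range_iff_exists_fun.1 (hx v)
      refine ⟨⟨ExteriorAlgebra.ι A w, ?_⟩, Subtype.ext ?_⟩
      · simp [G, ExteriorAlgebra.exteriorPower]
      · rw [show dk g 0 y = ⟨algebraMap A _ (∑ j, v j * g j), by
          rw [G, ExteriorAlgebra.exteriorPower, pow_zero, Submodule.one_eq_range]; exact ⟨_, rfl⟩⟩ from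
            Subtype.ext (by rw [dk_coe, ← hv]; exact ct_ι g v), hθ₀, dk_coe, ← hw]
        exact ct_ι f w
    obtain ⟨θ₁, h⟩ := Module.projective_lifting_property (dk f 0).rangeRestrict
      ((θ₀ ∘ₗ dk g 0).codRestrict _ hr) (LinearMap.surjective_rangeRestrict _)
    exact ⟨θ₁, fun y => congrArg Subtype.val (LinearMap.congr_fun h y)⟩
  have hstep : ∀ k (p : {p : (G A m k →ₗ[A] G A n k) × (G A m (k + 1) →ₗ[A] G A n (k + 1)) //
      ∀ y, dk f k (p.2 y) = p.1 (dk g k y)}),
      ∃ ψ : G A m (k + 2) →ₗ[A] G A n (k + 2), ∀ y, dk f (k + 1) (ψ y) = p.1.2 (dk g (k + 1) y) := fun k p =>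
    exists_factor hf (p.1.2 ∘ₗ dk g (k + 1)) fun y => by rw [LinearMap.comp_apply, p.2, dk_dk, map_zero]
  choose nx hnx using hstep
  let Θ : ∀ k, {p : (G A m k →ₗ[A] G A n k) × (G A m (k + 1) →ₗ[A] G A n (k + 1)) //
      ∀ y, dk f k (p.2 y) = p.1 (dk g k y)} := fun k =>
    k.rec ⟨(θ₀, θ₁), hθ₁⟩ fun k p => ⟨(p.1.2, nx k p), hnx k p⟩
  exact ⟨fun k => (Θ k).1.1, fun r h => Subtype.ext (hθ₀ r h), fun k => (Θ k).2⟩

end Lift

/-- An endomorphism of the Koszul complex vanishing in degree zero is zero modulo the ideal in top degree. -/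
theorem topCoord_mem {n : ℕ} {f : Fin (n + 1) → A} (hf : IsExact f)
    (φ : ∀ k, G A (n + 1) k →ₗ[A] G A (n + 1) k) (h0 : φ 0 = 0)
    (hφ : ∀ k y, dk f k (φ (k + 1) y) = φ k (dk f k y)) :
    topCoord A (n + 1) (φ (n + 1) (omega A (n + 1))) ∈ Ideal.span (Set.range f) := by
  have key : ∀ k, ∃ h : G A (n + 1) k →ₗ[A] G A (n + 1) (k + 1),
      ∀ y, dk f k (φ (k + 1) y - h (dk f k y)) = 0 := by
    intro k
    induction k with
    | zero => exact ⟨0, fun y => by rw [LinearMap.zero_apply, sub_zero, hφ, h0, LinearMap.zero_apply]⟩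
    | succ k ih =>
      obtain ⟨h, hh⟩ := ih
      obtain ⟨ψ, hψ⟩ := exists_factor hf (φ (k + 1) - h ∘ₗ dk f k) fun y => hh y
      exact ⟨ψ, fun y => by
        rw [map_sub, hψ, LinearMap.sub_apply, LinearMap.comp_apply, dk_dk, map_zero, sub_zero, hφ, sub_self]⟩
  obtain ⟨h, hh⟩ := key n
  obtain ⟨y, hy⟩ := (hf n _).1 (hh (omega A (n + 1)))
  have hy0 : y = 0 := by
    exact Subtype.ext ((Submodule.mem_bot A).1 ((G_eq_bot_of_lt (A := A) (show n + 1 < n + 2 by omega)).le y.2))
  rw [hy0, map_zero] at hy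
  rw [sub_eq_zero.1 hy.symm]
  exact topCoord_dk_mem f h _

/-- For `(f) ⊆ (g)` with `f = c g` and `f` Koszul regular, `(f) : (g) = (f) + (det c)`. -/
theorem mem_colon_iff {f g : Fin n → A} (hf : IsExact f) {c : Matrix (Fin n) (Fin n) A}
    (hc : ∀ i, f i = ∑ j, c i j * g j) (x : A) :
    (∀ a ∈ Ideal.span (Set.range g), x * a ∈ Ideal.span (Set.range f)) ↔
      x ∈ Ideal.span (Set.range f) ⊔ Ideal.span {c.det} := by
  classical
  constructor
  · intro h
    rcases n with _ | n
    · exact Ideal.mem_sup_right (by rw [Matrix.det_fin_zero, Ideal.span_singleton_one]; trivial)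
    · obtain ⟨θ, hθ0, hθ⟩ := exists_lift g hf x fun v => h _ (Ideal.sum_mem _ fun j _ =>
        Ideal.mul_mem_left _ _ (Ideal.subset_span ⟨j, rfl⟩))
      let φ : ∀ k, G A (n + 1) k →ₗ[A] G A (n + 1) k := fun k => θ k ∘ₗ mapk (matMap c) k - x • LinearMap.id
      have hcomm : ∀ k y, dk g k (mapk (matMap c) (k + 1) y) = mapk (matMap c) k (dk f k y) := fun k y =>
        Subtype.ext (ct_map (matMap c) f g (matMap_sum hc) _)
      have hφ : ∀ k y, dk f k (φ (k + 1) y) = φ k (dk f k y) := fun k y => by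
        simp only [φ, LinearMap.sub_apply, LinearMap.comp_apply, LinearMap.smul_apply, LinearMap.id_apply, map_sub,
          map_smul, hθ, hcomm]
      have h0 : φ 0 = 0 := by
        refine LinearMap.ext fun ⟨z, hz⟩ => ?_
        rw [G, ExteriorAlgebra.exteriorPower, pow_zero, Submodule.one_eq_range] at hz
        obtain ⟨r, rfl⟩ := hz
        have hm : mapk (matMap c) 0 ⟨Algebra.linearMap A (ExteriorAlgebra A (Fin (n + 1) → A)) r, by
            rw [G, ExteriorAlgebra.exteriorPower, pow_zero, Submodule.one_eq_range]; exact ⟨r, rfl⟩⟩ =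
              (⟨algebraMap A _ r, by
                rw [G, ExteriorAlgebra.exteriorPower, pow_zero, Submodule.one_eq_range]; exact ⟨r, rfl⟩⟩ :
              G A (n + 1) 0) := Subtype.ext (AlgHom.commutes _ r)
        refine Subtype.ext ?_
        simp only [φ, LinearMap.sub_apply, LinearMap.comp_apply, LinearMap.smul_apply, LinearMap.id_apply, hm, hθ0,
          LinearMap.zero_apply]
        simp [Algebra.smul_def]
      have htop := topCoord_mem hf φ h0 hφ
      simp only [φ, LinearMap.sub_apply, LinearMap.comp_apply, LinearMap.smul_apply, LinearMap.id_apply, map_sub,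
        map_smul, topCoord_omega, smul_eq_mul, mul_one] at htop
      rw [eq_topCoord_smul (mapk (matMap c) (n + 1) (omega A (n + 1))), topCoord_mapk, map_smul, map_smul,
        smul_eq_mul] at htop
      rw [show x = c.det * topCoord A (n + 1) (θ (n + 1) (omega A (n + 1))) -
        (c.det * topCoord A (n + 1) (θ (n + 1) (omega A (n + 1))) - x) by ring]
      exact sub_mem (Ideal.mem_sup_right (Ideal.mul_mem_right _ _ (Ideal.mem_span_singleton_self _)))
        (Ideal.mem_sup_left htop)
  · intro hx a ha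
    have hdet : ∀ j, c.det * g j ∈ Ideal.span (Set.range f) := fun j => by
      have hcg : c.mulVec g = f := funext fun i => (hc i).symm
      have : c.adjugate.mulVec f = c.det • g := by
        rw [← hcg, Matrix.mulVec_mulVec, Matrix.adjugate_mul, Matrix.smul_mulVec, Matrix.one_mulVec]
      have h := congrFun this j
      rw [Pi.smul_apply, smul_eq_mul] at h
      rw [← h]
      simp only [Matrix.mulVec, dotProduct]
      exact Ideal.sum_mem _ fun i _ => Ideal.mul_mem_left (Ideal.span (Set.range f)) _ (Ideal.subset_span (Set.mem_range_self i))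
    obtain ⟨w, hw⟩ := Ideal.mem_span_range_iff_exists_fun.1 ha
    obtain ⟨p, hp, q, hq, rfl⟩ := Submodule.mem_sup.1 hx
    obtain ⟨r, rfl⟩ := Ideal.mem_span_singleton.1 hq
    rw [add_mul, ← hw, Finset.mul_sum, Finset.mul_sum]
    refine add_mem (Ideal.sum_mem _ fun j _ => Ideal.mul_mem_right _ _ hp) (Ideal.sum_mem _ fun j _ => ?_)
    rw [show c.det * r * (w j * g j) = r * w j * (c.det * g j) by ring]
    exact Ideal.mul_mem_left _ _ (hdet j)

end Groth.Agent.KoszulExt

end
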