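import Groth.Agent.KoszulExt.Complex
import Mathlib.RingTheory.Ideal.Cotangent

/-!
# The conormal module of a Koszul-regular sequence
-/

noncomputable section

universe u

namespace Groth.Agent.KoszulExt

open ExteriorAlgebra

variable {A : Type u} [CommRing A] {n : ℕ} {f : Fin n → A}

/-- Relations on an exact Koszul sequence have coefficients in the ideal. -/
theorem IsExact.rel_mem (hf : IsExact f) {v : Fin n → A} (hv : ∑ i, v i * f i = 0) (i : Fin n) :
    v i ∈ Ideal.span (Set.range f) := by
  have hG1 : ∀ w : Fin n → A, ι A w ∈ G A n 1 := fun w => by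
    rw [G, ExteriorAlgebra.exteriorPower, pow_one]; exact LinearMap.mem_range_self _ _
  obtain ⟨y, hy⟩ := (hf 0 ⟨ι A v, hG1 v⟩).1 (Subtype.ext (by
    rw [dk_coe]; simp [ct_ι, hv]))
  have h : ι A v ∈ Ideal.span (Set.range f) • G A n 1 := by
    rw [show ι A v = ct f y.1 from (congrArg Subtype.val hy).symm]
    exact ct_mem_span f y.1 y.2
  have h' := Submodule.mem_map_of_mem (f := (LinearMap.proj i).comp (ιInv (R := A) (M := Fin n → A))) h
  rw [Submodule.map_smul''] at h'
  have hle : Ideal.span (Set.range f) • (G A n 1).map ((LinearMap.proj i).comp (ιInv (R := A) (M := Fin n → A))) ≤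
      Ideal.span (Set.range f) := Submodule.smul_le.2 fun r hr m _ => Ideal.mul_mem_right _ _ hr
  simpa [ι_leftInverse v] using hle h'

theorem exists_basis_cotangent {I : Ideal A} (f : Fin n → I) (hf : IsExact fun i => (f i : A))
    (hfI : Ideal.span (Set.range fun i => (f i : A)) = I) :
    ∃ b : Module.Basis (Fin n) (A ⧸ I) I.Cotangent, ∀ i, b i = I.toCotangent (f i) := by
  have hli : LinearIndependent (A ⧸ I) fun i => I.toCotangent (f i) := by
    rw [Fintype.linearIndependent_iff]
    intro g hg i
    choose a ha using fun j => Ideal.Quotient.mk_surjective (g j)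
    have h0 : I.toCotangent (∑ j, a j • f j) = 0 := by
      rw [map_sum, ← hg]
      refine Finset.sum_congr rfl fun j _ => ?_
      rw [map_smul, ← ha j, ← Ideal.Quotient.algebraMap_eq, algebraMap_smul]
    rw [Ideal.toCotangent_eq_zero] at h0
    simp only [AddSubmonoidClass.coe_finsetSum, SetLike.val_smul, smul_eq_mul] at h0
    have hsq : I ^ 2 ≤ I • Ideal.span (Set.range fun j => (f j : A)) := by rw [hfI, pow_two]; rfl
    obtain ⟨c, hc, hsum⟩ := (Submodule.mem_ideal_smul_span_iff_exists_sum I (fun j => (f j : A)) _).1 (hsq h0)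
    rw [Finsupp.sum_fintype _ _ (fun _ => by simp)] at hsum
    have hrel : ∑ j, (a j - c j) * (f j : A) = 0 := by
      simp only [sub_mul, Finset.sum_sub_distrib, ← hsum, smul_eq_mul, sub_self]
    have := hf.rel_mem hrel i
    rw [hfI] at this
    rw [← ha i]
    exact Ideal.Quotient.eq_zero_iff_mem.2 (by simpa using add_mem this (hc i))
  have hsp : ⊤ ≤ Submodule.span (A ⧸ I) (Set.range fun i => I.toCotangent (f i)) := by
    rintro z -
    obtain ⟨⟨x, hx⟩, rfl⟩ := I.toCotangent_surjective z
    obtain ⟨c, hc⟩ := Ideal.mem_span_range_iff_exists_fun.1 (hfI.ge hx)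
    have : (⟨x, hx⟩ : I) = ∑ j, c j • f j := Subtype.ext (by simp [hc])
    rw [this, map_sum]
    refine Submodule.sum_mem _ fun j _ => ?_
    rw [map_smul, ← algebraMap_smul (A ⧸ I)]
    exact Submodule.smul_mem _ _ (Submodule.subset_span ⟨j, rfl⟩)
  exact ⟨Module.Basis.mk hli hsp, fun i => by rw [Module.Basis.mk_apply]⟩

end Groth.Agent.KoszulExt
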