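import Groth.Agent.KoszulExt.Complex
import Mathlib.RingTheory.Flat.Basic
import Mathlib.RingTheory.TensorProduct.Basic

/-!
# Flat base change of Koszul regularity
-/

noncomputable section

universe u

open scoped TensorProduct

namespace Groth.Agent.KoszulExt

variable {A P B : Type u} [CommRing A] [CommRing P] [CommRing B] [Algebra A P] [Algebra A B] {n : ℕ}

variable (B n) in
/-- Coefficientwise inclusion `⋀ P^n → ⋀ (P ⊗ B)^n`. -/
def sigma : ExteriorAlgebra P (Fin n → P) →ₐ[P] ExteriorAlgebra (P ⊗[A] B) (Fin n → P ⊗[A] B) :=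
  ExteriorAlgebra.lift P
    ⟨(ExteriorAlgebra.ι (P ⊗[A] B)).restrictScalars P ∘ₗ (Algebra.linearMap P (P ⊗[A] B)).compLeft (Fin n),
      fun _ => ExteriorAlgebra.ι_sq_zero _⟩

lemma sigma_ι (v : Fin n → P) : sigma (A := A) B n (ExteriorAlgebra.ι P v) =
    ExteriorAlgebra.ι (P ⊗[A] B) (fun i => algebraMap P (P ⊗[A] B) (v i)) :=
  ExteriorAlgebra.lift_ι_apply P _ _ v

lemma sigma_mem {k : ℕ} {x : ExteriorAlgebra P (Fin n → P)} (hx : x ∈ G P n k) :
    sigma (A := A) B n x ∈ G (P ⊗[A] B) n k :=
  G_induction (C := fun k x => sigma (A := A) B n x ∈ G (P ⊗[A] B) n k)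
    (fun a => by
      rw [AlgHom.commutes, IsScalarTower.algebraMap_apply P (P ⊗[A] B) (ExteriorAlgebra (P ⊗[A] B) (Fin n → P ⊗[A] B)),
        G, ExteriorAlgebra.exteriorPower, pow_zero, Submodule.one_eq_range]
      exact ⟨_, rfl⟩)
    (fun k x y hx hy => by rw [map_add]; exact add_mem hx hy)
    (fun k v x _ h => by rw [map_mul, sigma_ι]; exact ι_mul_mem _ h) hx

lemma ct_sigma (f : Fin n → P) (x : ExteriorAlgebra P (Fin n → P)) :
    ct (fun i => algebraMap P (P ⊗[A] B) (f i)) (sigma (A := A) B n x) = sigma (A := A) B n (ct f x) := by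
  induction x using CliffordAlgebra.left_induction with
  | algebraMap a =>
    rw [ct_algebraMap, AlgHom.commutes,
      IsScalarTower.algebraMap_apply P (P ⊗[A] B) (ExteriorAlgebra (P ⊗[A] B) (Fin n → P ⊗[A] B)), ct_algebraMap,
      map_zero]
  | add a b ha hb => rw [map_add, map_add, map_add, map_add, ha, hb]
  | ι_mul a v ha =>
    change ct _ (sigma (A := A) B n (ExteriorAlgebra.ι P v * a)) =
      sigma (A := A) B n (ct f (ExteriorAlgebra.ι P v * a))
    rw [map_mul, sigma_ι, ct_ι_mul, ct_ι_mul, ha, map_sub, map_smul, map_mul, sigma_ι]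
    congr 1
    simp_rw [← map_mul, ← map_sum]
    exact algebraMap_smul _ _ _

/-- `1 ⊗ b`. -/
abbrev incR (b : B) : P ⊗[A] B := (1 : P) ⊗ₜ b

variable (A B) in
/-- `b ⊗ x ↦ (1 ⊗ b) σ x`. -/
def nu (k : ℕ) : B ⊗[A] G P n k →ₗ[A] G (P ⊗[A] B) n k :=
  TensorProduct.lift <| LinearMap.mk₂ A
    (fun b x => (incR (P := P) (A := A) b) • (⟨sigma (A := A) B n x, sigma_mem x.2⟩ : G (P ⊗[A] B) n k))
    (fun a b x => by rw [incR, TensorProduct.tmul_add, add_smul])
    (fun c b x => by rw [incR, TensorProduct.tmul_smul, smul_assoc])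
    (fun b x y => by rw [← smul_add]; exact congrArg _ (Subtype.ext (map_add _ _ _)))
    (fun c b x => Subtype.ext (by
      change incR b • sigma (A := A) B n ((c • x : G P n k) : ExteriorAlgebra P (Fin n → P)) =
        c • incR b • sigma (A := A) B n (x : ExteriorAlgebra P (Fin n → P))
      rw [Submodule.coe_smul_of_tower, ← algebraMap_smul P c, map_smul, algebraMap_smul, smul_comm]))

lemma nu_tmul (k : ℕ) (b : B) (x : G P n k) :
    ((nu A B k (b ⊗ₜ x) : G (P ⊗[A] B) n k) : ExteriorAlgebra (P ⊗[A] B) (Fin n → P ⊗[A] B)) =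
      incR (A := A) (P := P) b • sigma (A := A) B n (x : ExteriorAlgebra P (Fin n → P)) :=
  congrArg Subtype.val (TensorProduct.lift.tmul (R := A) b x)

theorem nu_bijective (k : ℕ) : Function.Bijective (nu (P := P) (n := n) A B k) := by
  classical
  let bP := (Pi.basisFun P (Fin n)).exteriorPower k
  let bC := (Pi.basisFun (P ⊗[A] B) (Fin n)).exteriorPower k
  let e : B ⊗[A] G P n k ≃ₗ[A] G (P ⊗[A] B) n k :=
    ((TensorProduct.congr (LinearEquiv.refl A B) (bP.repr.restrictScalars A)).trans
      (TensorProduct.finsuppRight A A B P _)).trans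
      ((Finsupp.mapRange.linearEquiv (TensorProduct.comm A B P)).trans (bC.repr.restrictScalars A).symm)
  suffices h : nu (P := P) (n := n) A B k = e.toLinearMap by rw [h]; exact e.bijective
  refine TensorProduct.ext' fun b x => Subtype.ext ?_
  rw [nu_tmul]
  conv_lhs => rw [← bP.sum_repr x]
  simp only [e, LinearEquiv.coe_coe, LinearEquiv.trans_apply, TensorProduct.congr_tmul, LinearEquiv.refl_apply,
    LinearEquiv.restrictScalars_apply, LinearEquiv.restrictScalars_symm_apply]
  rw [bC.repr_symm_apply, Finsupp.linearCombination_apply, Finsupp.sum_fintype _ _ (fun i => zero_smul (P ⊗[A] B) (bC i)),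
    Submodule.coe_sum, Submodule.coe_sum, map_sum, Finset.smul_sum]
  refine Finset.sum_congr rfl fun s _ => ?_
  rw [Finsupp.mapRange.linearEquiv_apply, Finsupp.mapRange_apply, TensorProduct.finsuppRight_apply_tmul_apply,
    TensorProduct.comm_tmul, Submodule.coe_smul, Submodule.coe_smul, map_smul, ← algebraMap_smul (P ⊗[A] B) (bP.repr x s),
    smul_smul]
  congr 1
  · rw [incR, Algebra.TensorProduct.algebraMap_apply, Algebra.TensorProduct.tmul_mul_tmul, one_mul, mul_one,
      Algebra.algebraMap_self, RingHom.id_apply]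
  · simp only [bP, bC, exteriorPower.basis_apply, exteriorPower.ιMulti_family_apply_coe,
      ExteriorAlgebra.ιMulti_family, ExteriorAlgebra.ιMulti_apply, map_list_prod, List.map_ofFn]
    refine congrArg List.prod (congrArg List.ofFn (funext fun i => ?_))
    refine (sigma_ι _).trans (congrArg _ (funext fun j => ?_))
    simp [Pi.single_apply]

/-- Koszul regularity is preserved by a flat base change. -/
theorem IsExact.baseChange [Module.Flat A B] {f : Fin n → P} (hf : IsExact f) :
    IsExact (fun i => algebraMap P (P ⊗[A] B) (f i)) := by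
  intro k
  have hcomm : ∀ j (w : B ⊗[A] G P n (j + 1)),
      dk (fun i => algebraMap P (P ⊗[A] B) (f i)) j (nu A B (j + 1) w) =
        nu A B j (((dk f j).restrictScalars A).lTensor B w) := by
    intro j w
    induction w using TensorProduct.induction_on with
    | zero => simp
    | add a b ha hb => simp only [map_add, ha, hb]
    | tmul b x =>
      refine Subtype.ext ?_
      rw [dk_coe, nu_tmul, LinearMap.lTensor_tmul, nu_tmul, map_smul, ct_sigma]
      rfl
  have hex := Module.Flat.lTensor_exact (R := A) B (f := (dk f (k + 1)).restrictScalars A)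
    (g := (dk f k).restrictScalars A) (hf k)
  intro z
  refine ⟨fun hz => ?_, fun ⟨y, hy⟩ => hy ▸ dk_dk _ k y⟩
  obtain ⟨w, rfl⟩ := (nu_bijective (P := P) (n := n) (A := A) (B := B) (k + 1)).2 z
  rw [hcomm] at hz
  obtain ⟨y, hy⟩ := (hex w).1 ((nu_bijective (P := P) (n := n) (A := A) (B := B) k).1 (hz.trans (map_zero _).symm))
  exact ⟨nu A B (k + 2) y, (hcomm _ y).trans (congrArg _ hy)⟩

end Groth.Agent.KoszulExt

end
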