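import Groth.Agent.KoszulExt.Contract
import Groth.Prelude.Def_Koszul
import Groth.Prelude.Def_LCI2

/-!
# The mapping cone Koszul complex is the contraction complex
-/

noncomputable section

universe u

open CategoryTheory CategoryTheory.Limits

namespace Groth.Agent.KoszulExt

variable {A : Type u} [CommRing A]

/-- The exterior degree attached to a cohomological degree. -/
def Gz (A : Type u) [CommRing A] (n : ℕ) (i : ℤ) : Submodule A (ExteriorAlgebra A (Fin n → A)) :=
  if i ≤ 0 then G A n (-i).toNat else ⊥

/-- The Koszul complex embeds in the exterior algebra, degreewise onto the graded pieces. -/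
theorem exists_emb : ∀ (n : ℕ) (f : Fin n → A),
    ∃ e : ∀ i : ℤ, ((Koszul.koszul A (List.ofFn f)).X i) →ₗ[A] ExteriorAlgebra A (Fin n → A),
      (∀ i, Function.Injective (e i)) ∧ (∀ i, LinearMap.range (e i) = Gz A n i) ∧
      ∀ i j : ℤ, i + 1 = j → ∀ x, ct f (e i x) = e j ((Koszul.koszul A (List.ofFn f)).d i j x) := by
  intro n
  induction n with
  | zero =>
    intro f
    let S := (HomologicalComplex.single (ModuleCat.{u} A) (ComplexShape.up ℤ) 0).obj (ModuleCat.of A A)
    rw [List.ofFn_zero]
    change ∃ e : ∀ i : ℤ, (S.X i) →ₗ[A] _, (∀ i, Function.Injective (e i)) ∧ (∀ i, LinearMap.range (e i) = Gz A 0 i) ∧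
      ∀ i j : ℤ, i + 1 = j → ∀ x, ct f (e i x) = e j (S.d i j x)
    have hsub : ∀ i : ℤ, i ≠ 0 → Subsingleton (S.X i) := fun i hi =>
      ModuleCat.subsingleton_of_isZero (HomologicalComplex.isZero_single_obj_X _ _ _ _ hi)
    let ψ : S.X 0 ≃ₗ[A] A :=
      (HomologicalComplex.singleObjXSelf (ComplexShape.up ℤ) 0 (ModuleCat.of A A)).toLinearEquiv
    let T : S.X 0 →ₗ[A] ExteriorAlgebra A (Fin 0 → A) :=
      Algebra.linearMap A (ExteriorAlgebra A (Fin 0 → A)) ∘ₗ ψ.toLinearMap
    have hT : Function.Injective T := (ExteriorAlgebra.algebraMap_leftInverse _).injective.comp ψ.injective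
    refine ⟨fun i => if h : i = 0 then T ∘ₗ (eqToHom (congrArg S.X h)).hom else 0, fun i => ?_, fun i => ?_,
      fun i j hij x => ?_⟩ <;> dsimp only
    · by_cases h : i = 0
      · subst h
        rw [dif_pos rfl]
        exact hT
      · haveI := hsub i h
        exact Function.injective_of_subsingleton _
    · by_cases h : i = 0
      · subst h
        rw [dif_pos rfl, Gz, if_pos le_rfl, neg_zero, Int.toNat_zero, G, ExteriorAlgebra.exteriorPower, pow_zero,
          Submodule.one_eq_range]
        refine le_antisymm ?_ ?_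
        · rintro _ ⟨z, rfl⟩
          exact ⟨ψ z, rfl⟩
        · rintro _ ⟨r, rfl⟩
          exact ⟨ψ.symm r, congrArg (Algebra.linearMap A _) (ψ.apply_symm_apply r)⟩
      · rw [dif_neg h, LinearMap.range_zero, Gz]
        split_ifs with h'
        · rw [G_zero_eq_bot (by omega)]
        · rfl
    · by_cases h : i = 0
      · subst h
        rw [dif_pos rfl, dif_neg (by omega), LinearMap.zero_apply]
        exact ct_algebraMap f _
      · haveI := hsub i h
        rw [Subsingleton.elim x 0, map_zero, map_zero, map_zero, map_zero]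
  | succ n ih =>
    intro f
    let f' : Fin n → A := fun i => f i.succ
    obtain ⟨e, he, hr, hd⟩ := ih f'
    let K := Koszul.koszul A (List.ofFn f')
    let φ : K ⟶ K := f 0 • 𝟙 K
    rw [List.ofFn_succ]
    change ∃ e' : ∀ i : ℤ, ((CochainComplex.mappingCone φ).X i) →ₗ[A] _, (∀ i, Function.Injective (e' i)) ∧
      (∀ i, LinearMap.range (e' i) = Gz A (n + 1) i) ∧ ∀ i j : ℤ, i + 1 = j → ∀ x,
        ct f (e' i x) = e' j ((CochainComplex.mappingCone φ).d i j x)
    let pa : ∀ i : ℤ, (CochainComplex.mappingCone φ).X i →ₗ[A] K.X i := fun i =>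
      ((CochainComplex.mappingCone.snd φ).v i i (add_zero i)).hom
    let pb : ∀ i : ℤ, (CochainComplex.mappingCone φ).X i →ₗ[A] K.X (i + 1) := fun i =>
      ((CochainComplex.mappingCone.fst φ).1.v i (i + 1) rfl).hom
    have hmk : ∀ (i : ℤ) (a : K.X i) (b : K.X (i + 1)), ∃ x, pa i x = a ∧ pb i x = b := by
      intro i a b
      refine ⟨((CochainComplex.mappingCone.inr φ).f i).hom a +
        ((CochainComplex.mappingCone.inl φ).v (i + 1) i (by omega)).hom b, ?_, ?_⟩
      · rw [map_add, ← ModuleCat.comp_apply, ← ModuleCat.comp_apply, CochainComplex.mappingCone.inr_f_snd_v,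
          CochainComplex.mappingCone.inl_v_snd_v]
        exact add_zero a
      · rw [map_add, ← ModuleCat.comp_apply, ← ModuleCat.comp_apply, CochainComplex.mappingCone.inr_f_fst_v,
          CochainComplex.mappingCone.inl_v_fst_v]
        exact zero_add b
    have hext : ∀ i (x y : (CochainComplex.mappingCone φ).X i), pa i x = pa i y → pb i x = pb i y → x = y := by
      intro i x y h1 h2
      have h := fun z => congrArg (fun χ : (CochainComplex.mappingCone φ).X i ⟶ _ => χ.hom z)
        (CochainComplex.mappingCone.id_X φ i (i + 1) rfl)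
      refine (h x).symm.trans (Eq.trans ?_ (h y))
      simp only [ModuleCat.hom_add, LinearMap.add_apply, ModuleCat.hom_comp, LinearMap.comp_apply]
      exact congrArg₂ (· + ·) (congrArg _ h2) (congrArg _ h1)
    refine ⟨fun i => split ∘ₗ (e i ∘ₗ pa i).prod (e (i + 1) ∘ₗ pb i), fun i x y h => ?_, fun i => ?_,
      fun i j hij x => ?_⟩
    · have h' := split_injective h
      exact hext i x y (he i (Prod.ext_iff.1 h').1) (he (i + 1) (Prod.ext_iff.1 h').2)
    · refine le_antisymm ?_ fun z hz => ?_
      · rintro _ ⟨x, rfl⟩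
        have ha : e i (pa i x) ∈ Gz A n i := hr i ▸ LinearMap.mem_range_self _ _
        have hb : e (i + 1) (pb i x) ∈ Gz A n (i + 1) := hr (i + 1) ▸ LinearMap.mem_range_self _ _
        change split (e i (pa i x), e (i + 1) (pb i x)) ∈ _
        unfold Gz at ha hb ⊢
        rcases lt_trichotomy i 0 with h | h | h
        · rw [if_pos h.le] at ha ⊢
          rw [if_pos (by omega)] at hb
          obtain ⟨k, hk, hk'⟩ : ∃ k, (-i).toNat = k + 1 ∧ (-(i + 1)).toNat = k :=
            ⟨(-(i + 1)).toNat, by omega, rfl⟩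
          rw [hk] at ha ⊢
          exact split_mem ha (hk' ▸ hb)
        · subst h
          rw [if_neg (by omega), Submodule.mem_bot] at hb
          rw [if_pos le_rfl] at ha ⊢
          rw [hb, split_apply, map_zero, mul_zero, add_zero]
          exact map_mem _ ha
        · rw [if_neg (by omega), Submodule.mem_bot] at ha hb ⊢
          rw [ha, hb, show ((0 : ExteriorAlgebra A (Fin n → A)), (0 : ExteriorAlgebra A (Fin n → A))) = 0 from rfl,
            map_zero]
      · unfold Gz at hz
        split_ifs at hz with h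
        · obtain ⟨a, b, ha, hb, rfl⟩ := exists_split hz
          obtain ⟨x, hx⟩ := (hr i).ge (show a ∈ Gz A n i by rw [Gz, if_pos h]; exact ha)
          obtain ⟨y, hy⟩ := (hr (i + 1)).ge (show b ∈ Gz A n (i + 1) by
            rw [Gz]
            split_ifs with h'
            · rw [if_neg (by omega), show (-i).toNat - 1 = (-(i + 1)).toNat by omega] at hb
              exact hb
            · rw [if_pos (by omega)] at hb
              rw [hb]
              exact zero_mem _)
          obtain ⟨w, hw1, hw2⟩ := hmk i x y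
          exact ⟨w, by change split (e i (pa i w), e (i + 1) (pb i w)) = _; rw [hw1, hw2, hx, hy]⟩
        · rw [Submodule.mem_bot] at hz
          rw [hz]
          exact zero_mem _
    · subst hij
      change ct f (split (e i (pa i x), e (i + 1) (pb i x))) =
        split (e (i + 1) (pa (i + 1) _), e (i + 1 + 1) (pb (i + 1) _))
      rw [ct_split, show (fun l => f l.succ) = f' from rfl, hd i (i + 1) rfl, hd (i + 1) (i + 1 + 1) rfl]
      refine congrArg split (Prod.ext ?_ ?_)
      · change e (i + 1) (K.d i (i + 1) (pa i x)) + f 0 • e (i + 1) (pb i x) = e (i + 1) _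
        rw [← map_smul, ← map_add]
        refine congrArg _ (Eq.symm ?_)
        have h := congrArg (fun χ => χ.hom x) (CochainComplex.mappingCone.d_snd_v φ i (i + 1) rfl)
        refine (h.trans ?_ :)
        simp only [ModuleCat.hom_add, LinearMap.add_apply, ModuleCat.hom_comp, LinearMap.comp_apply]
        refine (add_comm _ _).trans (congrArg₂ (· + ·) rfl ?_)
        simp only [φ, HomologicalComplex.smul_f_apply, HomologicalComplex.id_f, ModuleCat.hom_smul,
          LinearMap.smul_apply]
        rfl
      · change -e (i + 1 + 1) (K.d (i + 1) (i + 1 + 1) (pb i x)) = e (i + 1 + 1) _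
        rw [← map_neg]
        refine congrArg _ (Eq.symm ?_)
        have h := congrArg (fun χ => χ.hom x) (CochainComplex.mappingCone.d_fst_v φ i (i + 1) (i + 1 + 1) rfl rfl)
        exact (h.trans (by simp only [Preadditive.neg_comp, ModuleCat.hom_neg, LinearMap.neg_apply, ModuleCat.hom_comp, LinearMap.comp_apply]; rfl) :)

/-- Koszul regularity is exactness of the contraction complex in positive degrees. -/
theorem isKoszulRegularSeq_iff {n : ℕ} (f : Fin n → A) :
    LCI.IsKoszulRegularSeq A (List.ofFn f) ↔
      ∀ k : ℕ, ∀ z ∈ G A n (k + 1), ct f z = 0 → ∃ y ∈ G A n (k + 2), ct f y = z := by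
  obtain ⟨e, he, hr, hd⟩ := exists_emb n f
  have hG : ∀ k : ℕ, LinearMap.range (e (-(k : ℤ))) = G A n k := fun k => by
    rw [hr, Gz, if_pos (by omega), neg_neg, Int.toNat_natCast]
  have key : ∀ a b c : ℤ, a + 1 = b → b + 1 = c → (IsZero ((Koszul.koszul A (List.ofFn f)).homology b) ↔
      ∀ z ∈ LinearMap.range (e b), ct f z = 0 → ∃ y ∈ LinearMap.range (e a), ct f y = z) := by
    intro a b c hab hbc
    rw [← HomologicalComplex.exactAt_iff_isZero_homology,
      HomologicalComplex.exactAt_iff' _ a b c (CochainComplex.prev ℤ b |>.trans (by omega))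
        (CochainComplex.next ℤ b |>.trans (by omega)), ShortComplex.moduleCat_exact_iff]
    constructor
    · rintro h _ ⟨x, rfl⟩ hz
      obtain ⟨y, hy⟩ := h x (he c (((hd b c hbc x).symm.trans hz).trans (map_zero (e c)).symm :))
      exact ⟨_, LinearMap.mem_range_self _ y, (hd a b hab y).trans (congrArg (e b) hy :)⟩
    · intro h x hx
      obtain ⟨_, ⟨y, rfl⟩, hy⟩ := h _ (LinearMap.mem_range_self (e b) x)
        ((hd b c hbc x).trans ((congrArg (e c) hx).trans (map_zero _)))
      exact ⟨y, he b ((hd a b hab y).symm.trans hy)⟩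
  constructor
  · intro h k
    have := (key (-((k + 2 : ℕ) : ℤ)) (-((k + 1 : ℕ) : ℤ)) (-(k : ℤ)) (by omega) (by omega)).1 (h _ (by omega))
    rwa [hG, hG] at this
  · intro h i hi
    rcases lt_or_gt_of_ne hi with hneg | hpos
    · obtain ⟨k, rfl⟩ : ∃ k : ℕ, i = -((k + 1 : ℕ) : ℤ) := ⟨(-i - 1).toNat, by omega⟩
      refine (key (-((k + 2 : ℕ) : ℤ)) _ (-(k : ℤ)) (by omega) (by omega)).2 ?_
      rw [hG, hG]
      exact h k
    · refine (key (i - 1) i (i + 1) (by omega) rfl).2 fun z hz _ => ⟨0, zero_mem _, ?_⟩
      rw [hr, Gz, if_neg (by omega), Submodule.mem_bot] at hz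
      rw [hz, map_zero]

end Groth.Agent.KoszulExt

end
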