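import Mathlib.LinearAlgebra.ExteriorAlgebra.Basic
import Mathlib.LinearAlgebra.CliffordAlgebra.Contraction

/-!
# The contraction differential on the exterior algebra of a free module

`ct f` is contraction with `∑ f_i e_i*`; `split` decomposes `⋀ A^(n+1)` as `⋀ A^n ⊕ e₀ ⋀ A^n`.
-/

noncomputable section

universe u

namespace Groth.Agent.KoszulExt

open ExteriorAlgebra

variable {A : Type u} [CommRing A] {n : ℕ}

local notation "E" n => ExteriorAlgebra A (Fin n → A)

/-- The Koszul differential. -/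
def ct (f : Fin n → A) : (E n) →ₗ[A] (E n) :=
  CliffordAlgebra.contractLeft (Fintype.linearCombination A f : Module.Dual A (Fin n → A))

lemma ct_algebraMap (f : Fin n → A) (a : A) : ct f (algebraMap A (E n) a) = 0 :=
  CliffordAlgebra.contractLeft_algebraMap _ _ a

lemma ct_one (f : Fin n → A) : ct f (1 : E n) = 0 := CliffordAlgebra.contractLeft_one _ _

lemma ct_ι_mul (f : Fin n → A) (v : Fin n → A) (x : E n) :
    ct f (ι A v * x) = (∑ i, v i * f i) • x - ι A v * ct f x := by
  refine (CliffordAlgebra.contractLeft_ι_mul _ v x).trans ?_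
  rw [Fintype.linearCombination_apply]
  rfl

lemma ct_ι (f : Fin n → A) (v : Fin n → A) : ct f (ι A v) = algebraMap A (E n) (∑ i, v i * f i) := by
  rw [← mul_one (ι A v), ct_ι_mul, ct_one, mul_zero, sub_zero, Algebra.algebraMap_eq_smul_one]

lemma ct_ct (f : Fin n → A) (x : E n) : ct f (ct f x) = 0 := CliffordAlgebra.contractLeft_contractLeft _ x

/-- The degree `k` part. -/
abbrev G (A : Type u) [CommRing A] (n k : ℕ) : Submodule A (ExteriorAlgebra A (Fin n → A)) :=
  exteriorPower A k (Fin n → A)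

lemma ι_mul_mem {k : ℕ} {x : E n} (v : Fin n → A) (hx : x ∈ G A n k) : ι A v * x ∈ G A n (k + 1) := by
  change _ ∈ LinearMap.range (ι A : (Fin n → A) →ₗ[A] E n) ^ (k + 1)
  rw [pow_succ']
  exact Submodule.mul_mem_mul ⟨v, rfl⟩ hx

lemma G_induction {C : ∀ k, (E n) → Prop} (h0 : ∀ a, C 0 (algebraMap A (E n) a))
    (hadd : ∀ k x y, C k x → C k y → C k (x + y))
    (hmul : ∀ k v x, x ∈ G A n k → C k x → C (k + 1) (ι A v * x)) : ∀ {k x}, x ∈ G A n k → C k x := by
  intro k
  induction k with
  | zero =>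
    intro x hx
    rw [G, exteriorPower, pow_zero, Submodule.one_eq_range] at hx
    obtain ⟨a, rfl⟩ := hx
    exact h0 a
  | succ k ih =>
    intro x hx
    rw [G, exteriorPower, pow_succ'] at hx
    refine Submodule.mul_induction_on hx ?_ fun a b ha hb => hadd _ a b ha hb
    rintro _ ⟨v, rfl⟩ y hy
    exact hmul k v y hy (ih hy)

lemma ct_mem {f : Fin n → A} {k : ℕ} {x : E n} (hx : x ∈ G A n k) :
    ct f x ∈ G A n (k - 1) ∧ (k = 0 → ct f x = 0) := by
  refine G_induction (C := fun k x => ct f x ∈ G A n (k - 1) ∧ (k = 0 → ct f x = 0))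
    (fun a => ⟨by rw [ct_algebraMap]; exact zero_mem _, fun _ => ct_algebraMap f a⟩)
    (fun k x y hx hy => ⟨by rw [map_add]; exact add_mem hx.1 hy.1, fun hk => by rw [map_add, hx.2 hk, hy.2 hk, add_zero]⟩)
    (fun k v x hx h => ⟨?_, fun hk => absurd hk (Nat.succ_ne_zero k)⟩) hx
  rw [ct_ι_mul, Nat.add_sub_cancel]
  refine sub_mem (Submodule.smul_mem _ _ hx) ?_
  rcases k with _ | k
  · rw [h.2 rfl, mul_zero]; exact zero_mem _
  · exact ι_mul_mem v h.1

section Map

variable {m : ℕ}

lemma map_mem {k : ℕ} {x : E n} (L : (Fin n → A) →ₗ[A] (Fin m → A)) (hx : x ∈ G A n k) :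
    map L x ∈ G A m k :=
  G_induction (C := fun k x => map L x ∈ G A m k)
    (fun a => by rw [AlgHom.commutes, G, exteriorPower, pow_zero, Submodule.one_eq_range]; exact ⟨a, rfl⟩)
    (fun k x y hx hy => by rw [map_add]; exact add_mem hx hy)
    (fun k v x _ h => by rw [map_mul, map_apply_ι]; exact ι_mul_mem _ h) hx

/-- `ExteriorAlgebra.map` commutes with the differentials. -/
lemma ct_map (L : (Fin n → A) →ₗ[A] (Fin m → A)) (f : Fin n → A) (g : Fin m → A)
    (h : ∀ v, ∑ i, L v i * g i = ∑ i, v i * f i) (x : E n) : ct g (map L x) = map L (ct f x) := by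
  induction x using CliffordAlgebra.left_induction with
  | algebraMap a => rw [AlgHom.commutes, ct_algebraMap, ct_algebraMap, map_zero]
  | add a b ha hb => rw [map_add, map_add, map_add, map_add, ha, hb]
  | ι_mul a v ha =>
    change ct g (map L (ι A v * a)) = map L (ct f (ι A v * a))
    rw [ct_ι_mul, map_mul, map_apply_ι, ct_ι_mul, h, ha, map_sub, map_smul, map_mul, map_apply_ι]

end Map

section Split

/-- `v ↦ (0, v)`. -/
def inclV : (Fin n → A) →ₗ[A] (Fin (n + 1) → A) where
  toFun v := Fin.cons (0 : A) v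
  map_add' x y := funext fun i => by cases i using Fin.cases <;> simp
  map_smul' c x := funext fun i => by cases i using Fin.cases <;> simp

/-- `(v₀, v) ↦ v`. -/
def projV : (Fin (n + 1) → A) →ₗ[A] (Fin n → A) := LinearMap.funLeft A A Fin.succ

/-- The first basis vector. -/
def e0 : Fin (n + 1) → A := Pi.single 0 1

/-- The inclusion `⋀ A^n → ⋀ A^(n+1)`. -/
def incl : (E n) →ₐ[A] (E (n + 1)) := map inclV

lemma projV_inclV (v : Fin n → A) : projV (inclV v) = v := funext fun i => by simp [projV, inclV, LinearMap.funLeft]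

lemma decomp (v : Fin (n + 1) → A) : v = v 0 • e0 + inclV (projV v) :=
  funext fun i => by cases i using Fin.cases <;> simp [e0, inclV, projV, LinearMap.funLeft]

/-- `(a, b) ↦ a + e₀ b`. -/
def split : ((E n) × (E n)) →ₗ[A] (E (n + 1)) :=
  incl.toLinearMap ∘ₗ LinearMap.fst A _ _ + LinearMap.mulLeft A (ι A e0) ∘ₗ incl.toLinearMap ∘ₗ LinearMap.snd A _ _

lemma split_apply (a b : E n) : split (a, b) = incl a + ι A e0 * incl b := rfl

/-- The dual of the first basis vector. -/
abbrev d0 : Fin (n + 1) → A := Pi.single 0 1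

lemma ct_d0_incl (a : E n) : ct d0 (incl a) = 0 := by
  have : ∀ v : Fin n → A, ∑ i, inclV v i * (d0 (A := A)) i = ∑ i, v i * (0 : Fin n → A) i := fun v => by
    simp [inclV, d0, Fin.sum_univ_succ]
  rw [incl, ct_map inclV 0 d0 this, show ct (0 : Fin n → A) a = 0 from ?_, map_zero]
  rw [ct, show (Fintype.linearCombination A (0 : Fin n → A) : Module.Dual A (Fin n → A)) = 0 from
    LinearMap.ext fun v => by simp [Fintype.linearCombination_apply], map_zero, LinearMap.zero_apply]

lemma split_injective : Function.Injective (split : (E n) × (E n) → E (n + 1)) := by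
  have hp : ∀ a : E n, map projV (incl a) = a := fun a => by
    change ((map projV).comp (map inclV)) a = a
    rw [map_comp_map, show (projV : (Fin (n + 1) → A) →ₗ[A] _) ∘ₗ inclV = LinearMap.id from LinearMap.ext projV_inclV,
      map_id]
    rfl
  refine Function.LeftInverse.injective (g := fun x => (map projV x, map projV (ct d0 x))) fun ⟨a, b⟩ => ?_
  have h1 : ∑ i, e0 i * (d0 (A := A) (n := n)) i = 1 := by simp [e0, d0, Fin.sum_univ_succ]
  refine Prod.ext ?_ ?_ <;> dsimp only
  · rw [split_apply, map_add, map_mul, hp, map_apply_ι,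
      show projV (e0 : Fin (n + 1) → A) = 0 from funext fun i => by simp [projV, e0, LinearMap.funLeft], map_zero,
      zero_mul, add_zero]
  · rw [split_apply, map_add, ct_d0_incl, zero_add, ct_ι_mul, h1, one_smul, ct_d0_incl, mul_zero, sub_zero, hp]

/-- Degree `k` pieces under the splitting. -/
theorem exists_split {k : ℕ} {x : E (n + 1)} (hx : x ∈ G A (n + 1) k) :
    ∃ a b, a ∈ G A n k ∧ (if k = 0 then b = 0 else b ∈ G A n (k - 1)) ∧ split (a, b) = x := by
  refine G_induction (C := fun k x => ∃ a b, a ∈ G A n k ∧ (if k = 0 then b = 0 else b ∈ G A n (k - 1)) ∧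
    split (a, b) = x) (fun r => ⟨algebraMap A (E n) r, 0, ?_, rfl, ?_⟩) ?_ ?_ hx
  · rw [G, exteriorPower, pow_zero, Submodule.one_eq_range]; exact ⟨r, rfl⟩
  · rw [split_apply, map_zero, mul_zero, add_zero, AlgHom.commutes]
  · rintro k x y ⟨a, b, ha, hb, rfl⟩ ⟨a', b', ha', hb', rfl⟩
    refine ⟨a + a', b + b', add_mem ha ha', ?_, by rw [← map_add, Prod.mk_add_mk]⟩
    split_ifs with h
    · rw [if_pos h] at hb hb'; rw [hb, hb', add_zero]
    · rw [if_neg h] at hb hb'; exact add_mem hb hb'
  · rintro k v x - ⟨a, b, ha, hb, rfl⟩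
    refine ⟨ι A (projV v) * a, v 0 • a - ι A (projV v) * b, ι_mul_mem _ ha, ?_, ?_⟩
    · rw [if_neg (Nat.succ_ne_zero k), Nat.add_sub_cancel]
      refine sub_mem (Submodule.smul_mem _ _ ha) ?_
      rcases k with _ | k
      · rw [if_pos rfl] at hb; rw [hb, mul_zero]; exact zero_mem _
      · rw [if_neg (Nat.succ_ne_zero k), Nat.add_sub_cancel] at hb; exact ι_mul_mem _ hb
    · have h1 : ι A (inclV (projV v)) * ι A e0 = -(ι A e0 * ι A (inclV (projV v))) :=
        eq_neg_of_add_eq_zero_left (ι_add_mul_swap _ _)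
      have h2 : ι A (e0 : Fin (n + 1) → A) * ι A e0 = 0 := ι_sq_zero _
      rw [split_apply, split_apply]
      conv_rhs => rw [decomp v]
      simp only [map_sub, map_add, map_mul, map_smul, mul_add, add_mul, mul_sub, smul_mul_assoc, mul_smul_comm,
        show incl (ι A (projV v)) = ι A (inclV (projV v)) from map_apply_ι _ _, ← mul_assoc, h1, h2, neg_mul,
        zero_mul, smul_zero, add_zero]
      abel

lemma split_mem {k : ℕ} {a b : E n} (ha : a ∈ G A n (k + 1)) (hb : b ∈ G A n k) :
    split (a, b) ∈ G A (n + 1) (k + 1) :=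
  add_mem (map_mem _ ha) (ι_mul_mem _ (map_mem _ hb))

lemma ct_split (f : Fin (n + 1) → A) (a b : E n) :
    ct f (split (a, b)) = split (ct (fun i => f i.succ) a + f 0 • b, -ct (fun i => f i.succ) b) := by
  have hL : ∀ v : Fin n → A, ∑ i, inclV v i * f i = ∑ i, v i * f i.succ := fun v => by
    simp [inclV, Fin.sum_univ_succ]
  have h1 : ∑ i, e0 i * f i = f 0 := by simp [e0, Fin.sum_univ_succ]
  rw [split_apply, split_apply, map_add, ct_ι_mul, h1, incl, ct_map inclV _ f hL, ct_map inclV _ f hL, map_add,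
    map_smul, map_neg, mul_neg]
  abel

lemma G_zero_eq_bot {k : ℕ} (hk : k ≠ 0) : G A 0 k = ⊥ := by
  obtain ⟨k, rfl⟩ := Nat.exists_eq_succ_of_ne_zero hk
  rw [G, exteriorPower, pow_succ', show LinearMap.range (ι A : (Fin 0 → A) →ₗ[A] E 0) = ⊥ from
    LinearMap.range_eq_bot.2 (LinearMap.ext fun v => by rw [Subsingleton.elim v 0, map_zero, map_zero])]
  exact Submodule.bot_mul _

end Split

end Groth.Agent.KoszulExt

end
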