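import Groth.Agent.KoszulExt.OfList
import Groth.Agent.CAlgReg.AusBuch
import Groth.Agent.Depth.Change

/-!
# `Ext(-, A)` on modules of finite length over a regular local ring
-/

noncomputable section

universe u

open CategoryTheory Abelian IsLocalRing Opposite

namespace Groth.Agent.KoszulExt

variable {A : Type u} [CommRing A]

/-- `Ext^i(A ⧸ (f), M)` vanishes beyond the length of `f`. -/
theorem subsingleton_ext_of_lt {n : ℕ} {f : Fin n → A} (hf : IsExact f) (M : Type u) [AddCommGroup M]
    [Module A M] {i : ℕ} (hi : n < i) :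
    Subsingleton (Ext (ModuleCat.of A (A ⧸ Ideal.span (Set.range f))) (ModuleCat.of A M) i) := by
  haveI : Subsingleton ((resolution hf).complex.X i) := by
    change Subsingleton (G A n i)
    rw [G_eq_bot_of_lt hi]; infer_instance
  refine subsingleton_of_forall_eq 0 fun x => ?_
  obtain ⟨g, hg, rfl⟩ := (resolution hf).extMk_surjective x (i + 1) rfl
  have : g = 0 := (ModuleCat.isZero_of_subsingleton _).eq_of_src g 0
  subst this
  exact ProjectiveResolution.extMk_zero _ _ _

/-- transport of `Ext` along an isomorphism of the source -/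
def extCongr {X X' : ModuleCat.{u} A} (e : X ≅ X') (Y : ModuleCat.{u} A) (i : ℕ) :
    Ext X' Y i ≃ₗ[A] Ext X Y i :=
  (((LocCohBasic.abExt A (ModuleCat.{u} A) i).mapIso e.op).app Y).toLinearEquiv

/-- precomposition with a map -/
def extPre {X X' : ModuleCat.{u} A} (g : X ⟶ X') (Y : ModuleCat.{u} A) (i : ℕ) :
    Ext X' Y i →ₗ[A] Ext X Y i :=
  (((LocCohBasic.abExt A (ModuleCat.{u} A) i).map g.op).app Y).hom

lemma extPre_apply {X X' : ModuleCat.{u} A} (g : X ⟶ X') (Y : ModuleCat.{u} A) (i : ℕ) (x : Ext X' Y i) :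
    extPre g Y i x = (Ext.mk₀ g).comp x (zero_add i) := rfl

variable [IsRegularLocalRing A] {n : ℕ} (hn : ringKrullDim A = n)

include hn in
theorem ext_residueField :
    (∀ i, i ≠ n → Subsingleton (Ext (ModuleCat.of A (A ⧸ maximalIdeal A)) (ModuleCat.of A A) i)) ∧
      Module.length A (Ext (ModuleCat.of A (A ⧸ maximalIdeal A)) (ModuleCat.of A A) n) = 1 := by
  obtain ⟨s, hcard, hs⟩ := Submodule.FG.exists_span_finset_card_eq_spanFinrank
    (maximalIdeal A).fg_of_isNoetherianRing
  have hl : Ideal.ofList s.toList = maximalIdeal A := by rw [← hs, Ideal.ofList]; simp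
  have hlen : s.toList.length = n := by rw [Finset.length_toList, hcard, CAlgReg.spanFinrank_eq_of_dim hn]
  have hex := isExact_get (CAlgReg.isRegular_generators hn s.toList hlen hl).toIsWeaklyRegular
  have hspan : Ideal.span (Set.range fun i : Fin s.toList.length => s.toList[i]) = maximalIdeal A := by
    rw [span_range_get, hl]
  refine ⟨fun i hi => ?_, ?_⟩
  · rcases lt_or_gt_of_ne hi with h | h
    · refine Depth.subsingleton_ext_of_add_supportDim_lt_depth A 0 (A ⧸ maximalIdeal A) ?_ i ?_
      · rw [Module.supportDim_quotient_eq_ringKrullDim]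
        exact (ringKrullDim_eq_zero_of_isField
          ((Ideal.Quotient.maximal_ideal_iff_isField_quotient _).mp inferInstance)).le
      · rw [CAlgReg.depth_self_eq_dim hn]
        exact_mod_cast h
    · have := subsingleton_ext_of_lt hex A (i := i) (by omega)
      rwa [hspan] at this
  · obtain ⟨e⟩ := nonempty_ext_top_equiv hex A
    have hq : ((Ideal.span (Set.range fun i : Fin s.toList.length => s.toList[i])) • (⊤ : Submodule A A)) =
        maximalIdeal A := by
      rw [hspan, smul_eq_mul, Ideal.mul_top]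
    rw [← hlen]
    have e' := e ≪≫ₗ Submodule.quotEquivOfEq _ _ hq
    rw [hspan] at e'
    rw [e'.length_eq, Module.length_eq_one_iff]
    exact isSimpleModule_iff_quot_maximal.mpr ⟨maximalIdeal A, inferInstance, ⟨LinearEquiv.refl A _⟩⟩

include hn in
/-- `Ext(-, A)` on finite length modules. -/
theorem ext_finiteLength {M : Type u} [AddCommGroup M] [Module A M] (hM : IsFiniteLength A M) :
    (∀ i, i ≠ n → Subsingleton (Ext (ModuleCat.of A M) (ModuleCat.of A A) i)) ∧
      Module.length A (Ext (ModuleCat.of A M) (ModuleCat.of A A) n) = Module.length A M := by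
  induction hM with
  | @of_subsingleton M _ _ _ =>
    have h : ∀ i, Subsingleton (Ext (ModuleCat.of A M) (ModuleCat.of A A) i) := fun i =>
      subsingleton_of_forall_eq 0 fun x => by
        rw [← Ext.mk₀_id_comp x, (ModuleCat.isZero_of_subsingleton (ModuleCat.of A M)).eq_of_src (𝟙 _) 0,
          Ext.mk₀_zero, Ext.zero_comp]
    haveI := h n
    exact ⟨fun i _ => h i, by rw [Module.length_eq_zero, Module.length_eq_zero]⟩
  | @of_simple_quotient M _ _ N hsimple hN ih =>
    obtain ⟨I, hI, ⟨e⟩⟩ := isSimpleModule_iff_quot_maximal.mp hsimple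
    obtain rfl := eq_maximalIdeal hI
    have hS : (ModuleCat.shortComplexOfCompEqZero N.subtype N.mkQ (by ext; simp)).ShortExact :=
      { exact := (ShortComplex.ShortExact.moduleCat_exact_iff_function_exact _).mpr (LinearMap.exact_subtype_mkQ N)
        mono_f := (ModuleCat.mono_iff_injective _).mpr N.injective_subtype
        epi_g := (ModuleCat.epi_iff_surjective _).mpr N.mkQ_surjective }
    obtain ⟨q0, q1⟩ := ext_residueField hn
    have c := extCongr (A := A) e.toModuleIso (ModuleCat.of A A)
    have hQ : ∀ i, i ≠ n → Subsingleton (Ext (ModuleCat.of A (M ⧸ N)) (ModuleCat.of A A) i) := fun i hi =>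
      haveI := q0 i hi
      (c i).symm.subsingleton
    have hz : ∀ i, i ≠ n → Subsingleton (Ext (ModuleCat.of A M) (ModuleCat.of A A) i) := fun i hi =>
      subsingleton_of_forall_eq 0 fun x => by
        obtain ⟨z, rfl⟩ := Ext.contravariant_sequence_exact₂ hS _ x (@Subsingleton.elim _ (ih.1 i hi) _ _)
        rw [show z = 0 from @Subsingleton.elim _ (hQ i hi) _ _, Ext.comp_zero]
    refine ⟨hz, ?_⟩
    rw [Module.length_eq_add_of_exact N.subtype N.mkQ N.injective_subtype N.mkQ_surjective
        (LinearMap.exact_subtype_mkQ N), e.length_eq,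
      show Module.length A (A ⧸ maximalIdeal A) =
          Module.length A (Ext (ModuleCat.of A (M ⧸ N)) (ModuleCat.of A A) n) from
        (Module.length_eq_one_iff.mpr (isSimpleModule_iff_quot_maximal.mpr
          ⟨maximalIdeal A, inferInstance, ⟨LinearEquiv.refl A _⟩⟩)).trans (q1.symm.trans (c n).length_eq),
      ← ih.2, add_comm]
    refine Module.length_eq_add_of_exact
      (extPre (ModuleCat.ofHom N.mkQ) (ModuleCat.of A A) n) (extPre (ModuleCat.ofHom N.subtype) (ModuleCat.of A A) n)
      ?_ ?_ ?_
    · refine (injective_iff_map_eq_zero _).mpr fun z hz' => ?_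
      rcases Nat.eq_zero_or_pos n with rfl | hpos
      · obtain ⟨g, rfl⟩ := (Ext.mk₀_bijective _ _).2 z
        rw [extPre_apply, Ext.mk₀_comp_mk₀, Ext.mk₀_eq_zero_iff] at hz'
        haveI := hS.epi_g
        have : g = 0 := (cancel_epi (ModuleCat.ofHom N.mkQ)).mp (hz'.trans Limits.comp_zero.symm)
        rw [this, Ext.mk₀_zero]
      · obtain ⟨w, rfl⟩ := Ext.contravariant_sequence_exact₃ hS _ z hz' (n₀ := n - 1) (by omega)
        rw [show w = 0 from @Subsingleton.elim _ (ih.1 (n - 1) (by omega)) _ _, Ext.comp_zero]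
    · intro y
      exact Ext.contravariant_sequence_exact₁ hS _ y (n₁ := 1 + n) rfl
        (@Subsingleton.elim _ (hQ (1 + n) (by omega)) _ _)
    · intro x
      constructor
      · exact fun hx => Ext.contravariant_sequence_exact₂ hS _ x hx
      · rintro ⟨z, rfl⟩
        rw [extPre_apply, extPre_apply, Ext.mk₀_comp_mk₀_assoc]
        have : ModuleCat.ofHom N.subtype ≫ ModuleCat.ofHom N.mkQ = 0 := by ext x; simp
        rw [this, Ext.mk₀_zero, Ext.zero_comp]

end Groth.Agent.KoszulExt
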