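import Groth.Agent.KoszulExt.Resolution

/-!
# Sequences given as lists
-/

universe u

namespace Groth.Agent.KoszulExt

open RingTheory.Sequence

theorem span_range_get {A : Type u} [CommRing A] (xs : List A) :
    Ideal.span (Set.range fun i : Fin xs.length => xs[i]) = Ideal.ofList xs := by
  congr 1
  ext x
  constructor
  · rintro ⟨i, rfl⟩; exact List.getElem_mem i.2
  · intro hx
    obtain ⟨i, hi, rfl⟩ := List.getElem_of_mem hx
    exact ⟨⟨i, hi⟩, rfl⟩

theorem isExact_get {A : Type u} [CommRing A] {xs : List A} (h : IsWeaklyRegular A xs) :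
    IsExact fun i : Fin xs.length => xs[i] := by
  rw [isExact_iff]
  exact isKoszulRegularSeq_of_isWeaklyRegular ((List.ofFn_getElem (xs := xs)).symm ▸ h)

end Groth.Agent.KoszulExt
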