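import Groth.Agent.KoszulExt.Homology
import Groth.Agent.KoszulExt.Conormal
import Groth.Agent.LocCohBasic.ExtComparison
import Mathlib.CategoryTheory.Monoidal.Tor
import Mathlib.Algebra.Category.ModuleCat.Monoidal.Basic
import Mathlib.Algebra.Category.ModuleCat.Projective
import Mathlib.Algebra.Category.ModuleCat.EnoughInjectives

/-!
# The Koszul resolution and the resulting values of `Ext` and `Tor`
-/

noncomputable section

universe u

open CategoryTheory Limits

namespace Groth.Agent.KoszulExt

variable {A : Type u} [CommRing A] {n : ℕ} (f : Fin n → A)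

/-- The Koszul complex as a chain complex. -/
def cx : ChainComplex (ModuleCat.{u} A) ℕ :=
  ChainComplex.of (fun k => ModuleCat.of A (G A n k)) (fun k => ModuleCat.ofHom (dk f k))
    (fun k => ModuleCat.hom_ext (LinearMap.ext fun x => dk_dk f k x))

lemma cx_d (k : ℕ) : (cx f).d (k + 1) k = ModuleCat.ofHom (dk f k) := by
  dsimp only [cx]
  exact ChainComplex.of_d (fun k => ModuleCat.of A (G A n k)) (fun k => ModuleCat.ofHom (dk f k)) k

lemma exists_scalar (x : G A n 0) : ∃ a, (x : ExteriorAlgebra A (Fin n → A)) = algebraMap A _ a := by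
  have hx := x.2
  simp only [G, ExteriorAlgebra.exteriorPower, pow_zero, Submodule.one_eq_range] at hx
  obtain ⟨a, ha⟩ := hx
  exact ⟨a, ha.symm⟩

lemma algebraMap_mem_G (a : A) : algebraMap A (ExteriorAlgebra A (Fin n → A)) a ∈ G A n 0 := by
  simp only [G, ExteriorAlgebra.exteriorPower, pow_zero, Submodule.one_eq_range]
  exact ⟨a, rfl⟩

lemma ι_mem_G_one (v : Fin n → A) : ExteriorAlgebra.ι A v ∈ G A n 1 := by
  have h1 : (1 : ExteriorAlgebra A (Fin n → A)) ∈ G A n 0 := by
    simpa using algebraMap_mem_G (n := n) (1 : A)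
  simpa using ι_mul_mem v h1

/-- The augmentation. -/
def aug : G A n 0 →ₗ[A] A ⧸ Ideal.span (Set.range f) :=
  (Ideal.span (Set.range f)).mkQ ∘ₗ
    (ExteriorAlgebra.algebraMapInv : ExteriorAlgebra A (Fin n → A) →ₐ[A] A).toLinearMap ∘ₗ (G A n 0).subtype

lemma aug_algebraMap (x : G A n 0) (a : A) (h : (x : ExteriorAlgebra A (Fin n → A)) = algebraMap A _ a) :
    aug f x = (Ideal.span (Set.range f)).mkQ a := by
  simp [aug, h, ExteriorAlgebra.algebraMap_leftInverse _ a]

lemma aug_surjective : Function.Surjective (aug f) := fun q => by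
  obtain ⟨a, rfl⟩ := Submodule.Quotient.mk_surjective _ q
  exact ⟨⟨_, algebraMap_mem_G a⟩, aug_algebraMap f _ a rfl⟩

lemma exact_aug : Function.Exact (dk f 0) (aug f) := by
  intro x
  constructor
  · intro hx
    obtain ⟨a, ha⟩ := exists_scalar x
    rw [aug_algebraMap f x a ha] at hx
    obtain ⟨c, hc⟩ := Ideal.mem_span_range_iff_exists_fun.mp ((Submodule.Quotient.mk_eq_zero _).mp hx)
    exact ⟨⟨_, ι_mem_G_one c⟩, Subtype.ext (by rw [dk_coe]; exact (ct_ι f c).trans (by rw [hc, ha]))⟩
  · rintro ⟨y, rfl⟩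
    obtain ⟨a, ha⟩ := exists_scalar (dk f 0 y)
    have h := ct_mem_span f y.1 y.2
    rw [aug_algebraMap f _ a ha]
    refine (Submodule.Quotient.mk_eq_zero _).mpr ?_
    have h2 := Submodule.mem_map_of_mem
      (f := (ExteriorAlgebra.algebraMapInv : ExteriorAlgebra A (Fin n → A) →ₐ[A] A).toLinearMap) h
    rw [Submodule.map_smul''] at h2
    have h3 := Submodule.smul_le.2 (fun r hr m _ => Ideal.mul_mem_right m _ hr) h2
    rw [← dk_coe, ha] at h3
    simpa [ExteriorAlgebra.algebraMap_leftInverse _ a] using h3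

variable {f}

set_option backward.isDefEq.respectTransparency false in
/-- The Koszul resolution of `A ⧸ (f)`. -/
def resolution (hf : IsExact f) : ProjectiveResolution (ModuleCat.of A (A ⧸ Ideal.span (Set.range f))) where
  complex := cx f
  projective k := by
    haveI : Module.Free A (G A n k) := Module.Free.of_basis ((Pi.basisFun A (Fin n)).exteriorPower k)
    change Projective (ModuleCat.of A (G A n k))
    rw [← IsProjective.iff_projective]
    exact Module.Projective.of_free
  π := (ChainComplex.toSingle₀Equiv _ _).symm ⟨ModuleCat.ofHom (aug f), by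
    rw [cx_d]; ext x; exact (exact_aug f).apply_apply_eq_zero x⟩
  quasiIso := ⟨fun k => by
    cases k with
    | zero =>
      rw [ChainComplex.quasiIsoAt₀_iff, ShortComplex.quasiIso_iff_of_zeros']
      · refine (ShortComplex.exact_and_epi_g_iff_of_iso (S₂ := ShortComplex.mk ((cx f).d 1 0)
          (ModuleCat.ofHom (aug f)) (by rw [cx_d]; ext x; exact (exact_aug f).apply_apply_eq_zero x)) ?_).2
          ⟨?_, (ModuleCat.epi_iff_surjective _).mpr (aug_surjective f)⟩
        · exact ShortComplex.isoMk (Iso.refl _) (Iso.refl _) (Iso.refl _) (by simp) (by simp)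
        · rw [ShortComplex.ShortExact.moduleCat_exact_iff_function_exact]
          simp only [cx_d]
          exact exact_aug f
      all_goals rfl
    | succ k =>
      rw [quasiIsoAt_iff_exactAt']
      · rw [HomologicalComplex.exactAt_iff' _ (k + 1 + 1) (k + 1) k (by simp) (by simp),
          ShortComplex.ShortExact.moduleCat_exact_iff_function_exact]
        simp only [HomologicalComplex.sc', HomologicalComplex.shortComplexFunctor', cx_d]
        exact hf k
      · apply ChainComplex.exactAt_succ_single_obj⟩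

variable {M : Type u} [AddCommGroup M] [Module A M]

lemma d_comp_eq_zero (hJM : Ideal.span (Set.range f) • (⊤ : Submodule A M) = ⊥) (i j : ℕ)
    (φ : (cx f).X j ⟶ ModuleCat.of A M) : (cx f).d i j ≫ φ = 0 := by
  by_cases h : (ComplexShape.down ℕ).Rel i j
  · obtain rfl : j + 1 = i := h
    rw [cx_d]
    ext x
    let g : G A n j →ₗ[A] M := φ.hom
    change g (dk f j x) = 0
    have h2 : dk f j x ∈ Ideal.span (Set.range f) • (⊤ : Submodule A (G A n j)) := by
      have h1 := ct_mem_span f x.1 x.2
      rw [← Submodule.map_subtype_top (G A n j), ← Submodule.map_smul''] at h1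
      obtain ⟨y, hy, hxy⟩ := h1
      rwa [show dk f j x = y from Subtype.ext hxy.symm]
    have h3 := Submodule.mem_map_of_mem (f := g) h2
    rw [Submodule.map_smul''] at h3
    have h4 : g (dk f j x) ∈ Ideal.span (Set.range f) • (⊤ : Submodule A M) := (smul_mono_right (Ideal.span (Set.range f)) (le_top (a := Submodule.map g ⊤))) h3
    rwa [hJM, Submodule.mem_bot] at h4
  · rw [(cx f).shape _ _ h, zero_comp]

/-- `Ext^i(A ⧸ (f), M)` for `M` killed by `(f)`. -/
theorem nonempty_ext_equiv_of_smul_eq_bot (hf : IsExact f)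
    (hJM : Ideal.span (Set.range f) • (⊤ : Submodule A M) = ⊥) (i : ℕ) :
    Nonempty (Abelian.Ext (ModuleCat.of A (A ⧸ Ideal.span (Set.range f))) (ModuleCat.of A M) i ≃ₗ[A]
      (Fin (n.choose i) → M)) := by
  let K := (resolution hf).complex.linearYonedaObj A (ModuleCat.of A M)
  have hd : ∀ p q, K.d p q = 0 := fun p q => by ext φ; exact d_comp_eq_zero hJM q p φ
  let S := K.sc i
  let e₁ := (asIso (LocCohBasic.homologyToExt (R := A) (resolution hf) (ModuleCat.of A M) i)).symm ≪≫
    (ShortComplex.LeftHomologyData.ofZeros S (hd _ _) (hd _ _)).homologyIso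
  let e₂ : ((resolution hf).complex.X i ⟶ ModuleCat.of A M) ≃ₗ[A] (G A n i →ₗ[A] M) :=
    { toFun := fun φ => φ.hom
      map_add' := fun _ _ => rfl
      map_smul' := fun _ _ => rfl
      invFun := fun g => ModuleCat.ofHom g
      left_inv := fun _ => rfl
      right_inv := fun _ => rfl }
  let b := (Pi.basisFun A (Fin n)).exteriorPower i
  let σ : Set.powersetCard (Fin n) i ≃ Fin (n.choose i) := Fintype.equivFinOfCardEq (by
    rw [← Nat.card_eq_fintype_card, Set.powersetCard.card, Nat.card_eq_fintype_card, Fintype.card_fin])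
  exact ⟨e₁.toLinearEquiv ≪≫ₗ e₂ ≪≫ₗ (b.constr A).symm ≪≫ₗ LinearEquiv.funCongrLeft A M σ.symm⟩

variable (f) in
/-- wedging with a coordinate vector, read in the top degree -/
def wedgeTop {k : ℕ} (hk : k + 1 = n) (i : Fin n) : G A n k →ₗ[A] A :=
  topCoord A n ∘ₗ LinearMap.codRestrict (G A n n)
    (LinearMap.mulLeft A (ExteriorAlgebra.ι A (Pi.single i (1 : A) : Fin n → A)) ∘ₗ (G A n k).subtype)
    (fun x => by
      have := ι_mul_mem (Pi.single i (1 : A) : Fin n → A) x.2
      rwa [hk] at this)

lemma wedgeTop_dk {k : ℕ} (hk : k + 1 = n) (i : Fin n) (w : G A n (k + 1))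
    (hw : (w : ExteriorAlgebra A (Fin n → A)) = omega A n) : wedgeTop (A := A) hk i (dk f k w) = f i := by
  have h0 : ExteriorAlgebra.ι A (Pi.single i (1 : A) : Fin n → A) * (w : ExteriorAlgebra A (Fin n → A)) = 0 := by
    have := ι_mul_mem (Pi.single i (1 : A) : Fin n → A) w.2
    rwa [G_eq_bot_of_lt (show n < k + 1 + 1 by omega), Submodule.mem_bot] at this
  have h1 := ct_ι_mul f (Pi.single i (1 : A) : Fin n → A) w
  rw [h0, map_zero, eq_comm, sub_eq_zero, Finset.sum_eq_single i (fun j _ hj => by simp [hj])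
    (by simp)] at h1
  simp only [Pi.single_eq_same, one_mul] at h1
  have h2 : ∀ z : G A n n, (z : ExteriorAlgebra A (Fin n → A)) = f i • (omega A n : ExteriorAlgebra A _) →
      topCoord A n z = f i := fun z hz => by
    rw [show z = f i • omega A n from Subtype.ext hz, map_smul, topCoord_omega, smul_eq_mul, mul_one]
  refine h2 _ ?_
  change ExteriorAlgebra.ι A _ * ct f w.1 = _
  rw [← h1, hw]

lemma span_range_eq_bot_of_isEmpty [IsEmpty (Fin n)] : Ideal.span (Set.range f) = ⊥ := by
  rw [Set.range_eq_empty f, Ideal.span_empty]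

/-- `Ext^n(A ⧸ (f), M) ≃ M ⧸ (f) M`. -/
theorem nonempty_ext_top_equiv (hf : IsExact f) (M : Type u) [AddCommGroup M] [Module A M] :
    Nonempty (Abelian.Ext (ModuleCat.of A (A ⧸ Ideal.span (Set.range f))) (ModuleCat.of A M) n ≃ₗ[A]
      (M ⧸ (Ideal.span (Set.range f) • (⊤ : Submodule A M)))) := by
  let K := (resolution hf).complex.linearYonedaObj A (ModuleCat.of A M)
  let S := K.sc n
  have hg : S.g = 0 := by
    change K.d n ((ComplexShape.up ℕ).next n) = 0
    rw [CochainComplex.next ℕ n]
    ext φ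
    change (cx f).d (n + 1) n ≫ φ = 0
    haveI : Subsingleton ((cx f).X (n + 1)) := by
      change Subsingleton (G A n (n + 1))
      rw [G_eq_bot_of_lt (Nat.lt_succ_self n)]; infer_instance
    ext x
    rw [Subsingleton.elim x 0, map_zero]
    rfl
  let e₁ := (asIso (LocCohBasic.homologyToExt (R := A) (resolution hf) (ModuleCat.of A M) n)).symm ≪≫
    (ShortComplex.LeftHomologyData.ofIsColimitCokernelCofork S hg (ModuleCat.cokernelCocone S.f)
      (ModuleCat.cokernelIsColimit S.f)).homologyIso
  let ev : ((resolution hf).complex.X n ⟶ ModuleCat.of A M) ≃ₗ[A] M :=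
    { toFun := fun φ => φ.hom (omega A n)
      map_add' := fun _ _ => rfl
      map_smul' := fun _ _ => rfl
      invFun := fun m => ModuleCat.ofHom ((topCoord A n).smulRight m)
      left_inv := fun φ => by
        refine ModuleCat.hom_ext (LinearMap.ext fun (z : G A n n) => ?_)
        change topCoord A n z • φ.hom (omega A n) = φ.hom z
        let g : G A n n →ₗ[A] M := φ.hom
        change topCoord A n z • g (omega A n) = g z
        rw [← map_smul, ← eq_topCoord_smul z]
      right_inv := fun m => by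
        change topCoord A n (omega A n) • m = m
        rw [topCoord_omega, one_smul] }
  refine ⟨e₁.toLinearEquiv ≪≫ₗ Submodule.Quotient.equiv (LinearMap.range S.f.hom) _ ev ?_⟩
  apply le_antisymm
  · rintro _ ⟨_, ⟨φ, rfl⟩, rfl⟩
    let i := (ComplexShape.up ℕ).prev n
    change ((cx f).d n i ≫ φ).hom (omega A n) ∈ _
    let π := (Ideal.span (Set.range f) • (⊤ : Submodule A M)).mkQ
    rw [← Submodule.Quotient.mk_eq_zero]
    have hz : Ideal.span (Set.range f) • (⊤ : Submodule A (M ⧸ (Ideal.span (Set.range f) • (⊤ : Submodule A M)))) = ⊥ := by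
      rw [eq_bot_iff, Submodule.smul_le]
      intro r hr q _
      obtain ⟨m, rfl⟩ := Submodule.Quotient.mk_surjective _ q
      exact (Submodule.Quotient.mk_eq_zero _).mpr (Submodule.smul_mem_smul hr trivial)
    have := d_comp_eq_zero hz n i (φ ≫ ModuleCat.ofHom π)
    exact congr($(this) (omega A n))
  · rw [Submodule.smul_le]
    intro r hr m _
    induction hr using Submodule.span_induction with
    | mem r hr =>
      obtain ⟨i, rfl⟩ := hr
      obtain ⟨k, hk⟩ : ∃ k, k + 1 = n := ⟨n - 1, by have := i.isLt; omega⟩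
      have hp : (ComplexShape.up ℕ).prev n = k := (ComplexShape.up ℕ).prev_eq' hk
      have key : ∀ p, p = k → ∃ φ : (cx f).X p ⟶ ModuleCat.of A M,
          ((cx f).d n p ≫ φ).hom (omega A n) = f i • m := by
        rintro p rfl
        refine ⟨ModuleCat.ofHom ((wedgeTop (A := A) hk i).smulRight m), ?_⟩
        subst hk
        rw [cx_d]
        change wedgeTop (A := A) rfl i (dk f _ (omega A _)) • m = _
        rw [wedgeTop_dk rfl i _ rfl]
      obtain ⟨φ, hφ⟩ := key _ hp
      exact ⟨_, ⟨φ, rfl⟩, hφ⟩
    | zero => simp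
    | add a b _ _ ha hb => rw [add_smul]; exact add_mem ha hb
    | smul a b _ hb => rw [smul_eq_mul, mul_smul]; exact Submodule.smul_mem _ a hb

open TensorProduct MonoidalCategory in
/-- `Tor_n(A ⧸ (f), M) ≃ Hom(A ⧸ (f), M)`. -/
theorem nonempty_tor_top_equiv (hf : IsExact f) (M : Type u) [AddCommGroup M] [Module A M] :
    Nonempty (↑(((Tor' (ModuleCat.{u} A) n).obj (ModuleCat.of A (A ⧸ Ideal.span (Set.range f)))).obj
      (ModuleCat.of A M)) ≃ₗ[A] ((A ⧸ Ideal.span (Set.range f)) →ₗ[A] M)) := by
  let F := (tensoringRight (ModuleCat.{u} A)).obj (ModuleCat.of A M)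
  let K := (F.mapHomologicalComplex (ComplexShape.down ℕ)).obj (cx f)
  let S := K.sc n
  have hS : S.f = 0 := by
    change F.map ((cx f).d ((ComplexShape.down ℕ).prev n) n) = 0
    rw [ChainComplex.prev, cx_d]
    have h0 : dk f n = 0 := LinearMap.ext fun (x : G A n (n + 1)) => by
      have hx : x = 0 := Subtype.ext ((Submodule.mem_bot A).mp (G_eq_bot_of_lt (A := A) (Nat.lt_succ_self n) ▸ x.2))
      rw [hx, map_zero, LinearMap.zero_apply]
    rw [h0]
    exact F.map_zero _ _
  let e₁ : ↑(((Tor' (ModuleCat.{u} A) n).obj (ModuleCat.of A (A ⧸ Ideal.span (Set.range f)))).obj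
      (ModuleCat.of A M)) ≃ₗ[A] LinearMap.ker S.g.hom :=
    ((resolution hf).isoLeftDerivedObj F n ≪≫
      (ShortComplex.LeftHomologyData.ofIsLimitKernelFork S hS (ModuleCat.kernelCone S.g)
        (ModuleCat.kernelIsLimit S.g)).homologyIso).toLinearEquiv
  let τ : G A n n ≃ₗ[A] A := LinearEquiv.ofLinearMap (topCoord A n) ((LinearMap.id).smulRight (omega A n))
    (LinearMap.ext fun a => by simp [topCoord_omega])
    (LinearMap.ext fun z => by simp [← eq_topCoord_smul z])
  let e : (G A n n) ⊗[A] M ≃ₗ[A] M := TensorProduct.congr τ (LinearEquiv.refl A M) ≪≫ₗ TensorProduct.lid A M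
  have he : ∀ m, e (omega A n ⊗ₜ m) = m := fun m => by simp [e, τ, topCoord_omega]
  let J := Ideal.span (Set.range f)
  let T := Submodule.torsionBySet A M (J : Set A)
  have hTlin : ∀ m ∈ T, J ≤ LinearMap.ker (LinearMap.toSpanSingleton A M m) := fun m hm r hr =>
    (Submodule.mem_torsionBySet_iff _ _).mp hm ⟨r, hr⟩
  let e₂ : T ≃ₗ[A] ((A ⧸ J) →ₗ[A] M) :=
    { toFun := fun m => Submodule.liftQ J (LinearMap.toSpanSingleton A M m.1) (hTlin m.1 m.2)
      map_add' := fun a b => LinearMap.ext fun q => by
        obtain ⟨r, rfl⟩ := Submodule.Quotient.mk_surjective _ q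
        rw [LinearMap.add_apply, Submodule.liftQ_apply, Submodule.liftQ_apply, Submodule.liftQ_apply]
        exact smul_add r a.1 b.1
      map_smul' := fun c a => LinearMap.ext fun q => by
        obtain ⟨r, rfl⟩ := Submodule.Quotient.mk_surjective _ q
        rw [RingHom.id_apply, LinearMap.smul_apply, Submodule.liftQ_apply, Submodule.liftQ_apply]
        exact smul_comm r c a.1
      invFun := fun u => ⟨u (Submodule.Quotient.mk 1), (Submodule.mem_torsionBySet_iff _ _).mpr fun r => by
        rw [← map_smul, ← Submodule.Quotient.mk_smul, smul_eq_mul, mul_one]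
        rw [(Submodule.Quotient.mk_eq_zero J).mpr r.2, map_zero]⟩
      left_inv := fun m => Subtype.ext (one_smul A m.1)
      right_inv := fun u => LinearMap.ext fun q => by
        obtain ⟨r, rfl⟩ := Submodule.Quotient.mk_surjective _ q
        rw [Submodule.liftQ_apply, LinearMap.toSpanSingleton_apply, ← map_smul, ← Submodule.Quotient.mk_smul,
          smul_eq_mul, mul_one] }
  let j := (ComplexShape.down ℕ).next n
  have hg : ∀ m : M, S.g.hom (omega A n ⊗ₜ m) = ((cx f).d n j).hom (omega A n) ⊗ₜ[A] m := fun m => rfl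
  have hker : Submodule.map (e : (G A n n) ⊗[A] M →ₗ[A] M) (LinearMap.ker S.g.hom) = T := by
    have hz : ∀ z, z ∈ LinearMap.ker S.g.hom ↔ S.g.hom (omega A n ⊗ₜ e z) = 0 := fun z => by
      have : z = omega A n ⊗ₜ e z := e.injective (he _).symm
      rw [LinearMap.mem_ker]
      exact iff_of_eq (congrArg (fun w => S.g.hom w = 0) this)
    apply le_antisymm
    · rintro _ ⟨z, hz', rfl⟩
      have h0 := (hz z).mp hz'
      rw [hg] at h0
      refine (Submodule.mem_torsionBySet_iff _ _).mpr fun r => ?_
      obtain ⟨r, hr⟩ := r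
      induction hr using Submodule.span_induction with
      | mem r hr =>
        obtain ⟨i, rfl⟩ := hr
        obtain ⟨k, hk⟩ : ∃ k, k + 1 = n := ⟨n - 1, by have := i.isLt; omega⟩
        have key : ∀ p, p = k → ∀ m : M, ((cx f).d n p).hom (omega A n) ⊗ₜ[A] m = 0 → f i • m = 0 := by
          rintro p rfl m hm
          subst hk
          rw [cx_d] at hm
          have := congrArg ((TensorProduct.lid A M).toLinearMap ∘ₗ LinearMap.rTensor M (wedgeTop (A := A) rfl i)) hm
          replace this := this.trans (map_zero _)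
          change wedgeTop (A := A) rfl i (dk f _ (omega A _)) • m = 0 at this
          rwa [wedgeTop_dk rfl i _ rfl] at this
        exact key _ ((ComplexShape.down ℕ).next_eq' hk) _ h0
      | zero => simp
      | add a b _ _ ha hb => rw [add_smul, ha, hb, add_zero]
      | smul a b _ hb =>
        change (a * b) • _ = (0 : M)
        rw [mul_smul]
        exact (congrArg (a • ·) hb).trans (smul_zero a)
    · intro m hm
      refine ⟨omega A n ⊗ₜ m, ?_, he m⟩
      refine (hz _).mpr ?_
      rw [show e (omega A n ⊗ₜ m) = m from he m, hg]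
      have hw : ((cx f).d n j).hom (omega A n) ∈ J • (⊤ : Submodule A ((cx f).X j)) := by
        have hJ : J • (⊤ : Submodule A ((cx f).X j ⧸ (J • (⊤ : Submodule A ((cx f).X j))))) = ⊥ := by
          rw [eq_bot_iff, Submodule.smul_le]
          intro r hr q _
          obtain ⟨x, rfl⟩ := Submodule.Quotient.mk_surjective _ q
          exact (Submodule.Quotient.mk_eq_zero _).mpr (Submodule.smul_mem_smul hr trivial)
        have := d_comp_eq_zero hJ n j (ModuleCat.ofHom (J • (⊤ : Submodule A ((cx f).X j))).mkQ)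
        exact (Submodule.Quotient.mk_eq_zero _).mp congr($(this) (omega A n))
      revert hw
      generalize ((cx f).d n j).hom (omega A n) = w
      intro hw
      refine Submodule.smul_induction_on (p := fun w => w ⊗ₜ[A] m = 0) hw (fun r hr x _ => ?_)
        (fun a b ha hb => by rw [TensorProduct.add_tmul, ha, hb, add_zero])
      rw [TensorProduct.smul_tmul, show r • m = 0 from (Submodule.mem_torsionBySet_iff _ _).mp hm ⟨r, hr⟩,
        TensorProduct.tmul_zero]
  exact ⟨e₁ ≪≫ₗ e.submoduleMap (LinearMap.ker S.g.hom) ≪≫ₗ LinearEquiv.ofEq _ _ hker ≪≫ₗ e₂⟩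

end Groth.Agent.KoszulExt
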